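import Cfsg.Agent.Lib.RigidGraph.Simple
import Mathlib.GroupTheory.GroupAction.Transitive

/-! Order, transitivity and simplicity from a full certificate. -/

set_option autoImplicit false

namespace Cfsg.Agent.RigidGraph

variable {n : ℕ} {G : Graph} {nodes : List Elt} {prog : List (ℕ × ℕ)}

/-- The two generators preserve the graph. -/
noncomputable def gensAut (n : ℕ) (G : Graph) (nodes : List Elt) : Bool :=
  autOK n G (nodes.getD 0 (0, 0)) && autOK n G (nodes.getD 1 (0, 0))

theorem gen_lt (hn : slpOK n nodes prog = true) : 2 ≤ nodes.length := by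
  simp only [slpOK, Bool.and_eq_true, Nat.beq_eq] at hn
  omega

theorem grp_le_autG (hG : graphOK n G = true) (hn : slpOK n nodes prog = true)
    (ha : gensAut n G nodes = true) : grp n nodes ≤ autG n G := by
  simp only [gensAut, Bool.and_eq_true] at ha
  have := gen_lt hn
  rw [grp, Subgroup.closure_le, Set.insert_subset_iff, Set.singleton_subset_iff]
  exact ⟨autOK_mem hG (node_ok hn (by omega)) ha.1, autOK_mem hG (node_ok hn (by omega)) ha.2⟩

theorem card_grp (hG : graphOK n G = true) (hn : slpOK n nodes prog = true)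
    (ha : gensAut n G nodes = true) {Ls : List Level} (hL : levelsOK n G nodes [] Ls = true) :
    Nat.card ↥(grp n nodes) =
      (Ls.map (·.k)).prod * Nat.card ↥(grp n nodes ⊓ fixList n (Ls.map (·.t))) := by
  have := (chain_card hG hn (grp_le_autG hG hn ha) Ls [] hL (by simp)).2
  rw [List.nil_append, fixList_nil, inf_top_eq] at this
  exact this

theorem fix_eq_bot (hG : graphOK n G = true) {ts : List ℕ} (hts : ∀ b ∈ ts, b < n) {rs : List (List ℕ)}
    (hr : roundsOK n G ts rs = true) {ord : List ℕ} (hs : sepOK n G (ts ++ rs.flatten) ord = true) :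
    autG n G ⊓ fixList n ts = ⊥ := by
  obtain ⟨h1, h2⟩ := rounds_fix hG rs ts hr hts
  rw [eq_bot_iff, ← sep_bot h1 hs]
  exact le_inf inf_le_left h2

theorem card_grp_rigid (hG : graphOK n G = true) (hn : slpOK n nodes prog = true)
    (ha : gensAut n G nodes = true) {Ls : List Level} (hL : levelsOK n G nodes [] Ls = true)
    (hbot : autG n G ⊓ fixList n (Ls.map (·.t)) = ⊥) :
    Nat.card ↥(grp n nodes) = (Ls.map (·.k)).prod := by
  have h : grp n nodes ⊓ fixList n (Ls.map (·.t)) = ⊥ := by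
    rw [eq_bot_iff, ← hbot]
    exact inf_le_inf_right _ (grp_le_autG hG hn ha)
  rw [card_grp hG hn ha hL, h, Subgroup.card_bot, mul_one]

theorem pretransitive [NeZero n] (hn : slpOK n nodes prog = true) {L : Level} {Ls : List Level}
    (hL : levelsOK n G nodes [] (L :: Ls) = true) (hk : L.k = n) :
    MulAction.IsPretransitive ↥(grp n nodes) (Fin n) := by
  simp only [levelsOK, levelOK, Bool.and_eq_true, Nat.blt_eq] at hL
  obtain ⟨⟨⟨⟨ht, -⟩, hgens⟩, horb⟩, -⟩ := hL
  have hgs : ∀ e ∈ L.gens.map (getN nodes), permOK n e = true ∧ permOf n e ∈ grp n nodes := by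
    intro e he
    obtain ⟨g, hg, rfl⟩ := List.mem_map.1 he
    have := List.all_eq_true.1 hgens g hg
    simp only [Bool.and_eq_true, Nat.blt_eq] at this
    exact ⟨getN_ok hn this.1, getN_mem hn this.1⟩
  have hu : MulAction.orbit ↥(grp n nodes) (⟨L.t, ht.1.1⟩ : Fin n) = Set.univ :=
    Set.eq_of_subset_of_ncard_le (Set.subset_univ _) (by
      rw [Set.ncard_univ, Nat.card_fin]
      exact le_of_eq_of_le hk.symm (orbitOK_le _ hgs ht.1.1 horb))
  exact MulAction.isPretransitive_iff_orbit_eq_univ _ |>.2 hu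

theorem card_stab [NeZero n] [MulAction.IsPretransitive ↥(grp n nodes) (Fin n)] (x : Fin n) :
    n * Nat.card (MulAction.stabilizer ↥(grp n nodes) x) = Nat.card ↥(grp n nodes) := by
  rw [← Subgroup.card_mul_index (MulAction.stabilizer ↥(grp n nodes) x),
    MulAction.index_stabilizer_of_transitive, Nat.card_fin, mul_comm]

/-- Generators of the stabiliser and the cover by suborbits. -/
noncomputable def coverOK (n : ℕ) (nodes : List Elt) (b : ℕ) (gens : List ℕ)
    (l : List (ℕ × ℕ × List (ℕ × ℕ))) : Bool :=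
  Nat.blt b n && gens.all (fun g => Nat.blt (g / 2) nodes.length && Nat.beq (slot (getN nodes g).1 b) b) &&
    l.all (fun p => Nat.blt p.1 n) &&
    (match coverGo (gens.map (getN nodes)) l (ins 0 b) with
      | some m => Nat.beq m (2 ^ n - 1)
      | none => false) &&
    sumsOK n (l.map fun p => p.2.1)

/-- The two generators have orders dividing `q ^ j`. -/
noncomputable def ordOK (n : ℕ) (nodes : List Elt) (m₀ m₁ : ℕ) : Bool :=
  powOK n (nodes.getD 0 (0, 0)) m₀ && powOK n (nodes.getD 1 (0, 0)) m₁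

theorem isSimpleGroup_grp [NeZero n] (hn : slpOK n nodes prog = true)
    [MulAction.IsPretransitive ↥(grp n nodes) (Fin n)] (h2 : 1 < n)
    {b : ℕ} {gens : List ℕ} {l : List (ℕ × ℕ × List (ℕ × ℕ))} (hc : coverOK n nodes b gens l = true)
    {q e j₀ j₁ : ℕ} (hq : q.Prime) (hqn : q ^ e ∣ n) (hG : ¬ q ^ (e + 1) ∣ Nat.card ↥(grp n nodes))
    (ho : ordOK n nodes (q ^ j₀) (q ^ j₁) = true) : IsSimpleGroup ↥(grp n nodes) := by
  haveI : Nontrivial ↥(grp n nodes) := by
    obtain ⟨g, hg⟩ := MulAction.exists_smul_eq ↥(grp n nodes) (⟨0, by omega⟩ : Fin n) ⟨1, h2⟩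
    refine ⟨g, 1, fun e => ?_⟩
    rw [e, one_smul, Fin.mk.injEq] at hg
    exact absurd hg (by norm_num)
  simp only [coverOK, Bool.and_eq_true, Nat.blt_eq, List.all_eq_true, Nat.beq_eq] at hc
  obtain ⟨⟨⟨⟨hb, hgens⟩, hlt⟩, hgo⟩, hsums⟩ := hc
  have := gen_lt hn
  have ho' : ∀ i < 2, ∃ j, permOf n (nodes.getD i (0, 0)) ^ q ^ j = 1 := by
    simp only [ordOK, Bool.and_eq_true] at ho
    intro i hi
    interval_cases i
    exacts [⟨j₀, powOK_spec (node_ok hn (by omega)) ho.1⟩, ⟨j₁, powOK_spec (node_ok hn (by omega)) ho.2⟩]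
  refine isSimpleGroup_of_sums (⟨b, hb⟩ : Fin n) (fun s hbs hs hd => ?_) hq (by rwa [Nat.card_fin]) hG
    (S := ((↑) : ↥(grp n nodes) → Equiv.Perm (Fin n)) ⁻¹'
      {permOf n (nodes.getD 0 (0, 0)), permOf n (nodes.getD 1 (0, 0))})
    Subgroup.closure_closure_coe_preimage fun g hg => ?_
  · have hgs : ∀ e ∈ gens.map (getN nodes), permOK n e = true ∧
        permOf n e ∈ grp n nodes ⊓ fixList n [b] := by
      intro e he
      obtain ⟨g, hg, rfl⟩ := List.mem_map.1 he
      obtain ⟨h1, h2⟩ := hgens g hg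
      refine ⟨getN_ok hn h1, getN_mem hn h1, fun i hi => Fin.ext ?_⟩
      rw [List.mem_singleton] at hi
      rw [permOf_val (getN_ok hn h1), hi, h2]
    have hgo' : coverGo (gens.map (getN nodes)) l (ins 0 b) = some (2 ^ n - 1) := by
      split at hgo
      · rename_i m hm
        rw [hm, Nat.eq_of_beq_eq_true hgo]
      · exact Bool.noConfusion hgo
    obtain ⟨t, ht, et⟩ := cover_sums hgs hb (List.all_eq_true.2 fun p hp => by simpa using hlt p hp) hgo' hbs
      fun g hg y hy => hs ⟨g, hg.1⟩ (hg.2 ⟨b, hb⟩ (by simp)) y hy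
    have hk := List.all_eq_true.1 hsums t ht
    simp only [Bool.or_eq_true, Bool.not_eq_true', Nat.beq_eq] at hk
    rw [Nat.card_fin] at hd ⊢
    rw [et] at hd ⊢
    rcases hk with (h | h) | h
    · have := Nat.mod_eq_zero_of_dvd hd
      rw [this] at h
      exact absurd h (by simp)
    · left; omega
    · exact Or.inr h
  · rcases hg with h | h
    · obtain ⟨j, hj⟩ := ho' 0 (by omega)
      exact ⟨j, Subtype.ext (by rw [SubmonoidClass.coe_pow, show (g : Equiv.Perm (Fin n)) = _ from h]; exact hj)⟩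
    · obtain ⟨j, hj⟩ := ho' 1 (by omega)
      exact ⟨j, Subtype.ext (by rw [SubmonoidClass.coe_pow, show (g : Equiv.Perm (Fin n)) = _ from h]; exact hj)⟩

end Cfsg.Agent.RigidGraph
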