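import Cfsg.Agent.Lib.RigidGraph.Defs
import Mathlib.GroupTheory.Perm.Cycle.Type
import Mathlib.GroupTheory.GroupAction.Quotient
import Mathlib.GroupTheory.Index
import Mathlib.Tactic

/-! Meaning of the checkers for packed permutations, programs and graphs. -/

set_option autoImplicit false

namespace Cfsg.Agent.RigidGraph

theorem allB_spec {f : ℕ → Bool} : ∀ {n : ℕ}, allB f n = true → ∀ {i : ℕ}, i < n → f i = true := by
  intro n
  induction n with
  | zero => intro _ i hi; omega
  | succ n ih =>
    intro h i hi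
    change Bool.rec false (allB f n) (f n) = true at h
    cases hf : f n with
    | false => rw [hf] at h; exact Bool.noConfusion h
    | true =>
      rw [hf] at h
      rcases Nat.lt_succ_iff_lt_or_eq.1 hi with h1 | h1
      · exact ih h h1
      · exact h1 ▸ hf

theorem cntB_eq (f : ℕ → Bool) : ∀ n, cntB f n = ((Finset.range n).filter fun i => f i = true).card := by
  intro n
  induction n with
  | zero => rfl
  | succ n ih =>
    change Bool.rec (motive := fun _ => ℕ) (cntB f n) (Nat.succ (cntB f n)) (f n) = _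
    rw [Finset.range_add_one, Finset.filter_insert]
    cases hf : f n with
    | false => simp [ih]
    | true => simp [ih, Finset.card_insert_of_notMem]

theorem cntB_eq_fin (f : ℕ → Bool) (n : ℕ) :
    cntB f n = ((Finset.univ : Finset (Fin n)).filter fun i : Fin n => f i = true).card := by
  rw [cntB_eq, ← Finset.card_map (f := Fin.valEmbedding)
    (s := (Finset.univ : Finset (Fin n)).filter fun i : Fin n => f i = true)]
  congr 1
  ext i
  simp only [Finset.mem_filter, Finset.mem_range, Finset.mem_map, Finset.mem_univ, true_and,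
    Fin.valEmbedding_apply]
  exact ⟨fun h => ⟨⟨i, h.1⟩, h.2, rfl⟩, by rintro ⟨j, hj, rfl⟩; exact ⟨j.2, hj⟩⟩

theorem bit_eq_testBit (m i : ℕ) : bit m i = m.testBit i := by
  show Nat.beq ((m >>> i) &&& 1) 1 = m.testBit i
  rw [Nat.and_one_is_mod, Nat.testBit_eq_decide_div_mod_eq, Nat.shiftRight_eq_div_pow]
  rw [Bool.eq_iff_iff, Nat.beq_eq, decide_eq_true_eq]

theorem bit_zero (i : ℕ) : bit 0 i = false := by rw [bit_eq_testBit]; exact Nat.zero_testBit i

theorem bit_ins (m i j : ℕ) : bit (ins m i) j = true ↔ j = i ∨ bit m j = true := by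
  show bit (m ||| (1 <<< i)) j = true ↔ _
  rw [bit_eq_testBit, bit_eq_testBit, Nat.testBit_or, Nat.one_shiftLeft, Nat.testBit_two_pow,
    Bool.or_eq_true, decide_eq_true_eq]
  tauto

theorem bit_full {n i : ℕ} (hi : i < n) : bit (2 ^ n - 1) i = true := by
  rw [bit_eq_testBit, Nat.testBit_two_pow_sub_one]; simpa using hi

theorem eqB_iff : ∀ {a b : Bool}, eqB a b = true ↔ a = b := by decide

theorem bit_foldBits (g : ℕ → ℕ) (v : ℕ) : ∀ k,
    bit (Nat.rec 0 (fun j r => ins r (g j)) k) v = true ↔ ∃ j < k, g j = v := by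
  intro k
  induction k with
  | zero => simp [bit_zero]
  | succ k ih =>
    show bit (ins (Nat.rec 0 (fun j r => ins r (g j)) k) (g k)) v = true ↔ _
    rw [bit_ins, ih]
    constructor
    · rintro (rfl | ⟨j, hj, e⟩)
      · exact ⟨k, Nat.lt_succ_self k, rfl⟩
      · exact ⟨j, hj.trans (Nat.lt_succ_self k), e⟩
    · rintro ⟨j, hj, e⟩
      rcases Nat.lt_succ_iff_lt_or_eq.1 hj with h | rfl
      · exact Or.inr ⟨j, h, e⟩
      · exact Or.inl e.symm

/-! ### Permutations -/

theorem permOK_spec {n : ℕ} {e : Elt} (h : permOK n e = true) {i : ℕ} (hi : i < n) :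
    slot e.1 i < n ∧ slot e.2 i < n ∧ slot e.2 (slot e.1 i) = i ∧ slot e.1 (slot e.2 i) = i := by
  have := allB_spec h hi
  simp only [Bool.and_eq_true, Nat.beq_eq, Nat.blt_eq] at this
  exact ⟨this.1.1.1, this.1.1.2, this.1.2, this.2⟩

/-- The permutation of a packed pair. -/
noncomputable def permOf (n : ℕ) (e : Elt) : Equiv.Perm (Fin n) :=
  if h : permOK n e = true then
    { toFun := fun i => ⟨slot e.1 i, (permOK_spec h i.2).1⟩
      invFun := fun i => ⟨slot e.2 i, (permOK_spec h i.2).2.1⟩
      left_inv := fun i => Fin.ext (permOK_spec h i.2).2.2.1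
      right_inv := fun i => Fin.ext (permOK_spec h i.2).2.2.2 }
  else 1

theorem permOf_val {n : ℕ} {e : Elt} (h : permOK n e = true) (i : Fin n) :
    (permOf n e i : ℕ) = slot e.1 i := by
  rw [permOf, dif_pos h]; rfl

theorem permOK_invE {n : ℕ} {e : Elt} (h : permOK n e = true) : permOK n (invE e) = true := by
  have key : ∀ m, m ≤ n → allB (fun i => Nat.blt (slot (invE e).1 i) n && Nat.blt (slot (invE e).2 i) n &&
      Nat.beq (slot (invE e).2 (slot (invE e).1 i)) i && Nat.beq (slot (invE e).1 (slot (invE e).2 i)) i) m = true := by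
    intro m
    induction m with
    | zero => intro _; rfl
    | succ m ih =>
      intro hm
      obtain ⟨a, b, c, d⟩ := permOK_spec h (Nat.lt_of_succ_le hm)
      change Bool.rec false _ (Nat.blt (slot e.2 m) n && Nat.blt (slot e.1 m) n &&
        Nat.beq (slot e.1 (slot e.2 m)) m && Nat.beq (slot e.2 (slot e.1 m)) m) = true
      rw [show (Nat.blt (slot e.2 m) n && Nat.blt (slot e.1 m) n &&
        Nat.beq (slot e.1 (slot e.2 m)) m && Nat.beq (slot e.2 (slot e.1 m)) m) = true from by
          simp [a, b, c, d]]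
      exact ih (Nat.le_of_succ_le hm)
  exact key n le_rfl

theorem permOf_invE {n : ℕ} {e : Elt} (h : permOK n e = true) : permOf n (invE e) = (permOf n e)⁻¹ := by
  refine eq_inv_of_mul_eq_one_left (Equiv.ext fun i => Fin.ext ?_)
  rw [Equiv.Perm.mul_apply, permOf_val (permOK_invE h), permOf_val h]
  exact (permOK_spec h i.2).2.2.1

theorem permOf_mulOK {n : ℕ} {a b c : Elt} (hc : permOK n c = true) (ha : permOK n a = true)
    (hb : permOK n b = true) (h : mulOK n c a b = true) : permOf n c = permOf n a * permOf n b := by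
  refine Equiv.ext fun i => Fin.ext ?_
  rw [Equiv.Perm.mul_apply, permOf_val hc, permOf_val ha, permOf_val hb]
  exact Nat.eq_of_beq_eq_true (allB_spec h i.2)

/-- The group of a program. -/
noncomputable def grp (n : ℕ) (nodes : List Elt) : Subgroup (Equiv.Perm (Fin n)) :=
  Subgroup.closure {permOf n (nodes.getD 0 (0, 0)), permOf n (nodes.getD 1 (0, 0))}

section slp

variable {n : ℕ} {nodes : List Elt} {prog : List (ℕ × ℕ)}

theorem node_ok (h : slpOK n nodes prog = true) {m : ℕ} (hm : m < nodes.length) :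
    permOK n (nodes.getD m (0, 0)) = true := by
  simp only [slpOK, Bool.and_eq_true, List.all_eq_true] at h
  rw [List.getD_eq_getElem _ _ hm]
  exact h.1.2 _ (List.getElem_mem _)

theorem getN_ok (h : slpOK n nodes prog = true) {s : ℕ} (hs : s / 2 < nodes.length) :
    permOK n (getN nodes s) = true := by
  rw [getN]
  cases Nat.beq (s % 2) 1
  · exact node_ok h hs
  · exact permOK_invE (node_ok h hs)

theorem node_mem (h : slpOK n nodes prog = true) : ∀ m < nodes.length,
    permOf n (nodes.getD m (0, 0)) ∈ grp n nodes := by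
  intro m
  induction m using Nat.strong_induction_on with
  | _ m ih =>
    intro hm
    rcases lt_or_ge m 2 with h2 | h2
    · interval_cases m <;> exact Subgroup.subset_closure (by simp)
    · have h' := h
      simp only [slpOK, Bool.and_eq_true, Nat.beq_eq] at h'
      obtain ⟨⟨hlen, -⟩, hstep⟩ := h'
      obtain ⟨j, rfl⟩ : ∃ j, m = j + 2 := ⟨m - 2, by omega⟩
      have hj := allB_spec hstep (i := j) (by omega)
      simp only [Bool.and_eq_true, Nat.blt_eq] at hj
      obtain ⟨⟨ha, hb⟩, hmul⟩ := hj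
      have key : ∀ s, s / 2 < j + 2 → permOf n (getN nodes s) ∈ grp n nodes := by
        intro s hs
        rw [getN]
        cases Nat.beq (s % 2) 1
        · exact ih _ hs (by omega)
        · rw [cond_true, permOf_invE (node_ok h (by omega))]
          exact inv_mem (ih _ hs (by omega))
      rw [permOf_mulOK (node_ok h hm) (getN_ok h (by omega)) (getN_ok h (by omega)) hmul]
      exact mul_mem (key _ ha) (key _ hb)

theorem getN_mem (h : slpOK n nodes prog = true) {s : ℕ} (hs : s / 2 < nodes.length) :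
    permOf n (getN nodes s) ∈ grp n nodes := by
  rw [getN]
  cases Nat.beq (s % 2) 1
  · exact node_mem h _ hs
  · rw [cond_true, permOf_invE (node_ok h hs)]
    exact inv_mem (node_mem h _ hs)

end slp

theorem iter_spec {n : ℕ} {e : Elt} (h : permOK n e = true) (i : Fin n) :
    ∀ m, (((permOf n e) ^ m) i : ℕ) = iter e.1 m i := by
  intro m
  induction m with
  | zero => rfl
  | succ m ih =>
    rw [pow_succ', Equiv.Perm.mul_apply, permOf_val h, ih]
    rfl

theorem powOK_spec {n : ℕ} {e : Elt} (h : permOK n e = true) {m : ℕ} (hm : powOK n e m = true) :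
    permOf n e ^ m = 1 := by
  refine Equiv.ext fun i => Fin.ext ?_
  rw [iter_spec h]
  exact Nat.eq_of_beq_eq_true (allB_spec hm i.2)

/-! ### The graph -/

/-- Adjacency. -/
def Adj (G : Graph) (x u : ℕ) : Prop := bit (G.B.get x) u = true

/-- The automorphism group. -/
def autG (n : ℕ) (G : Graph) : Subgroup (Equiv.Perm (Fin n)) where
  carrier := {σ | ∀ x u : Fin n, Adj G (σ x) (σ u) ↔ Adj G x u}
  one_mem' := fun _ _ => Iff.rfl
  mul_mem' := fun {a b} ha hb x u => (ha (b x) (b u)).trans (hb x u)
  inv_mem' := fun {a} ha x u => by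
    have := ha (a⁻¹ x) (a⁻¹ u)
    simp only [Equiv.Perm.inv_def, Equiv.apply_symm_apply] at this ⊢
    exact this.symm

theorem mem_autG {n : ℕ} {G : Graph} {σ : Equiv.Perm (Fin n)} :
    σ ∈ autG n G ↔ ∀ x u : Fin n, Adj G (σ x) (σ u) ↔ Adj G x u := Iff.rfl

section graph

variable {n : ℕ} {G : Graph}

theorem row_spec (hG : graphOK n G = true) {x : ℕ} (hx : x < n) :
    (∀ v, Adj G x v ↔ ∃ j < G.k, slot (G.N.get x) j = v) ∧
      (∀ j < G.k, slot (G.N.get x) j < n) ∧
      ∀ i j, i < j → j < G.k → slot (G.N.get x) i < slot (G.N.get x) j := by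
  have h := allB_spec hG hx
  simp only [Bool.and_eq_true, Nat.beq_eq] at h
  obtain ⟨h1, h2⟩ := h
  have h3 : ∀ j < G.k, slot (G.N.get x) j < n ∧ (j + 1 = G.k ∨ slot (G.N.get x) j < slot (G.N.get x) (j + 1)) :=
    fun j hj => by
      have := allB_spec h2 hj
      simpa only [Bool.and_eq_true, Bool.or_eq_true, Nat.beq_eq, Nat.blt_eq] using this
  refine ⟨fun v => ?_, fun j hj => (h3 j hj).1, fun i j hij => ?_⟩
  · rw [Adj, ← h1]
    exact bit_foldBits _ v G.k
  · induction j, hij using Nat.le_induction with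
    | base => exact fun hk => (h3 i (by omega)).2.resolve_left (by omega)
    | succ j hj ih =>
      intro hk
      exact (ih (by omega)).trans ((h3 j (by omega)).2.resolve_left (by omega))

theorem autOK_mem (hG : graphOK n G = true) {e : Elt} (he : permOK n e = true)
    (h : autOK n G e = true) : permOf n e ∈ autG n G := by
  intro x u
  obtain ⟨hrow, hlt, -⟩ := row_spec hG x.2
  have h1 := Nat.eq_of_beq_eq_true (allB_spec h x.2)
  rw [Adj, permOf_val he, ← h1, permOf_val he, hrow]
  refine (bit_foldBits _ _ G.k).trans ⟨?_, ?_⟩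
  · rintro ⟨j, hj, e'⟩
    refine ⟨j, hj, ?_⟩
    rw [← (permOK_spec he (hlt j hj)).2.2.1, e', (permOK_spec he u.2).2.2.1]
  · rintro ⟨j, hj, e'⟩
    exact ⟨j, hj, by rw [e']⟩

theorem cnt_eq (hG : graphOK n G = true) {y : ℕ} (hy : y < n) (O : ℕ) :
    cnt G y O =
      ((Finset.univ : Finset (Fin n)).filter fun u : Fin n => bit (G.B.get y) u = true ∧ bit O u = true).card := by
  obtain ⟨hrow, hlt, hmono⟩ := row_spec hG hy
  rw [cnt, cntB_eq]
  refine Finset.card_bij (fun j hj => ⟨slot (G.N.get y) j, hlt j (Finset.mem_range.1 (Finset.mem_filter.1 hj).1)⟩)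
    (fun j hj => ?_) (fun i hi j hj e => ?_) (fun u hu => ?_)
  · rw [Finset.mem_filter, Finset.mem_range] at hj
    exact Finset.mem_filter.2 ⟨Finset.mem_univ _, (hrow _).2 ⟨j, hj.1, rfl⟩, hj.2⟩
  · simp only [Finset.mem_filter, Finset.mem_range] at hi hj
    simp only [Fin.mk.injEq] at e
    rcases lt_trichotomy i j with h | h | h
    · exact absurd e (ne_of_lt (hmono i j h hj.1))
    · exact h
    · exact absurd e.symm (ne_of_lt (hmono j i h hi.1))
  · rw [Finset.mem_filter] at hu
    obtain ⟨j, hj, e⟩ := (hrow _).1 hu.2.1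
    exact ⟨j, Finset.mem_filter.2 ⟨Finset.mem_range.2 hj, e ▸ hu.2.2⟩, Fin.ext e⟩

end graph

end Cfsg.Agent.RigidGraph
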