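import Cfsg.Agent.Lib.RigidGraph.Basic

/-! The two bounds given by a chain of levels, and rigidity. -/

set_option autoImplicit false

namespace Cfsg.Agent.RigidGraph

/-- The pointwise stabiliser of a list of points. -/
def fixList (n : ℕ) (bs : List ℕ) : Subgroup (Equiv.Perm (Fin n)) where
  carrier := {σ | ∀ i : Fin n, (i : ℕ) ∈ bs → σ i = i}
  one_mem' := fun _ _ => rfl
  mul_mem' := fun {a b} ha hb i hi => by rw [Equiv.Perm.mul_apply, hb i hi, ha i hi]
  inv_mem' := fun {a} ha i hi => by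
    conv_lhs => rw [← ha i hi]
    simp [Equiv.Perm.inv_def]

theorem mem_fixList {n : ℕ} {bs : List ℕ} {σ : Equiv.Perm (Fin n)} :
    σ ∈ fixList n bs ↔ ∀ i : Fin n, (i : ℕ) ∈ bs → σ i = i := Iff.rfl

theorem fixList_nil (n : ℕ) : fixList n [] = ⊤ := by
  ext σ; simp [mem_fixList]

variable {n : ℕ}

theorem fixList_append_le (bs cs : List ℕ) : fixList n (bs ++ cs) ≤ fixList n bs :=
  fun _ hσ i hi => hσ i (List.mem_append_left _ hi)

/-- Orbit times stabiliser inside a subgroup of permutations. -/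
theorem card_split (K : Subgroup (Equiv.Perm (Fin n))) (bs : List ℕ) (t : Fin n) :
    Nat.card ↥(K ⊓ fixList n bs) = (MulAction.orbit ↥(K ⊓ fixList n bs) t).ncard *
      Nat.card ↥(K ⊓ fixList n (bs ++ [(t : ℕ)])) := by
  have h := Subgroup.index_mul_card (MulAction.stabilizer ↥(K ⊓ fixList n bs) t)
  rw [MulAction.index_stabilizer] at h
  rw [← h]
  congr 1
  refine Nat.card_congr
    { toFun := fun g => ⟨g.1.1, g.1.2.1, fun i hi => ?_⟩
      invFun := fun g => ⟨⟨g.1, g.2.1, fixList_append_le _ _ g.2.2⟩, g.2.2 t (by simp)⟩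
      left_inv := fun _ => rfl
      right_inv := fun _ => rfl }
  rcases List.mem_append.1 hi with hi | hi
  · exact g.1.2.2 i hi
  · rw [List.mem_singleton] at hi
    rw [Fin.ext hi]
    exact g.2

theorem smul_adj {G : Graph} {σ : Equiv.Perm (Fin n)} (hσ : σ ∈ autG n G) {bs : List ℕ}
    (hfix : σ ∈ fixList n bs) {b : ℕ} (hb : b ∈ bs) (hbn : b < n) (y : Fin n) :
    bit (G.B.get b) (σ y) = bit (G.B.get b) y ∧ bit (G.B.get (σ y)) b = bit (G.B.get y) b := by
  have e : σ ⟨b, hbn⟩ = ⟨b, hbn⟩ := hfix ⟨b, hbn⟩ hb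
  have h1 := hσ ⟨b, hbn⟩ y
  have h2 := hσ y ⟨b, hbn⟩
  rw [e] at h1 h2
  exact ⟨Bool.eq_iff_iff.2 h1, Bool.eq_iff_iff.2 h2⟩

section pattern

variable {G : Graph} {bs : List ℕ}

theorem sigEq_smul (hG : graphOK n G = true) (hlt : ∀ b ∈ bs, b < n) {fs : List Feat}
    (hfs : fs.all (featOK n G bs) = true) {σ : Equiv.Perm (Fin n)} (hσ : σ ∈ autG n G ⊓ fixList n bs)
    {t : ℕ} (ht : t < n) (hne : t ∉ bs) : sigEq G bs fs t (σ ⟨t, ht⟩) = true := by
  obtain ⟨hσa, hσf⟩ := hσ
  simp only [sigEq, Bool.and_eq_true, List.all_eq_true, Bool.not_eq_true', Nat.beq_eq, eqB_iff]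
  refine ⟨fun b hb => ?_, fun f hf => ?_⟩
  · obtain ⟨h1, h2⟩ := smul_adj hσa hσf hb (hlt b hb) ⟨t, ht⟩
    refine ⟨⟨?_, h1⟩, h2⟩
    by_contra h
    rw [Bool.not_eq_false, Nat.beq_eq] at h
    have : σ ⟨t, ht⟩ = ⟨b, hlt b hb⟩ := Fin.ext h
    rw [← hσf ⟨b, hlt b hb⟩ hb] at this
    exact hne (by rw [show t = b from congrArg Fin.val (σ.injective this)]; exact hb)
  · have hok := List.all_eq_true.1 hfs f hf
    simp only [featOK, Bool.and_eq_true, List.any_eq_true, Nat.beq_eq] at hok
    obtain ⟨⟨b, hb, rfl⟩, hO⟩ := hok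
    have hinv : ∀ u : Fin n, bit f.O (σ u) = bit f.O u := by
      intro u
      obtain ⟨h1, h2⟩ := smul_adj hσa hσf hb (hlt _ hb) u
      cases hd : f.out
      · rw [hd] at hO
        simp only [cond_false] at hO
        rw [eqB_iff.1 (allB_spec hO (σ u).2), eqB_iff.1 (allB_spec hO u.2), h2]
      · rw [hd] at hO
        simp only [cond_true] at hO
        rw [Nat.eq_of_beq_eq_true hO, h1]
    rw [cnt_eq hG (σ ⟨t, ht⟩).2, cnt_eq hG ht]
    refine (Finset.card_equiv σ fun u => ?_).symm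
    simp only [Finset.mem_filter, Finset.mem_univ, true_and]
    exact and_congr (hσa ⟨t, ht⟩ u).symm (by rw [hinv])

theorem sigEq_ne {fs : List Feat} {t : ℕ} {y : ℕ} (h : sigEq G bs fs t y = true) : y ∉ bs := by
  simp only [sigEq, Bool.and_eq_true, List.all_eq_true, Bool.not_eq_true'] at h
  intro hy
  have := (h.1 y hy).1.1
  simp at this

theorem orbit_le (hG : graphOK n G = true) (hlt : ∀ b ∈ bs, b < n) {fs : List Feat}
    (hfs : fs.all (featOK n G bs) = true) {t : ℕ} (ht : t < n) (hne : t ∉ bs) :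
    (MulAction.orbit ↥(autG n G ⊓ fixList n bs) (⟨t, ht⟩ : Fin n)).ncard ≤ classCnt n G bs fs t := by
  rw [classCnt, cntB_eq_fin, ← Set.ncard_coe_finset]
  refine Set.ncard_le_ncard ?_
  rintro _ ⟨⟨σ, hσ⟩, rfl⟩
  rw [Finset.mem_coe, Finset.mem_filter]
  exact ⟨Finset.mem_univ _, sigEq_smul hG hlt hfs hσ ht hne⟩

end pattern

/-! ### Orbit trees -/

theorem growGo_spec {gs : List Elt} (hg : ∀ e ∈ gs, permOK n e = true) (R : ℕ → Prop)
    (hR : ∀ u, R u → ∀ e ∈ gs, u < n → R (slot e.1 u)) :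
    ∀ (tree : List (ℕ × ℕ)) (m c m' c' : ℕ),
      growGo gs tree m c = some (m', c') →
      (∀ u, bit m u = true → u < n) →
      (∀ u, bit m u = true → bit m' u = true) ∧ (∀ u, bit m' u = true → u < n) ∧
        ((∀ u, bit m u = true → R u) → ∀ u, bit m' u = true → R u) ∧
        ({u | bit m u = true}.ncard = c → {u | bit m' u = true}.ncard = c') := by
  intro tree
  induction tree with
  | nil =>
    intro m c m' c' h hlt
    simp only [growGo, Option.some.injEq, Prod.mk.injEq] at h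
    obtain ⟨rfl, rfl⟩ := h
    exact ⟨fun _ h => h, hlt, fun h => h, fun h => h⟩
  | cons a l ih =>
    obtain ⟨u, g⟩ := a
    intro m c m' c' h hlt
    rw [growGo] at h
    cases hc : (bit m u && Nat.blt g gs.length && !bit m (slot (gs.getD g (0, 0)).1 u)) with
    | false => rw [hc, cond_false] at h; exact absurd h (by simp)
    | true =>
      simp only [hc, cond_true] at h
      simp only [Bool.and_eq_true, Nat.blt_eq, Bool.not_eq_true'] at hc
      obtain ⟨⟨hu, hgl⟩, hnew⟩ := hc
      set e := gs.getD g (0, 0) with he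
      have hmem : e ∈ gs := by rw [he, List.getD_eq_getElem _ _ hgl]; exact List.getElem_mem _
      have hlt' : ∀ v, bit (ins m (slot e.1 u)) v = true → v < n := fun v hv => by
        rcases (bit_ins _ _ _).1 hv with rfl | hv
        · exact (permOK_spec (hg e hmem) (hlt u hu)).1
        · exact hlt v hv
      obtain ⟨k1, k2, k3, k4⟩ := ih _ _ m' c' h hlt'
      refine ⟨fun v hv => k1 v ((bit_ins _ _ _).2 (Or.inr hv)), k2, fun hRm => k3 fun v hv => ?_,
        fun hcS => ?_⟩
      · rcases (bit_ins _ _ _).1 hv with rfl | hv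
        · exact hR u (hRm u hu) e hmem (hlt u hu)
        · exact hRm v hv
      · refine k4 ?_
        have hset : {v | bit (ins m (slot e.1 u)) v = true} = insert (slot e.1 u) {v | bit m v = true} := by
          ext v; simp only [Set.mem_ofPred_eq, Set.mem_insert_iff, bit_ins]
        rw [hset, Set.ncard_insert_of_notMem (s := {v | bit m v = true}) (fun hin => by
          have hin' : bit m (slot e.1 u) = true := hin
          rw [hin'] at hnew; exact Bool.noConfusion hnew)
          ((Set.finite_lt_nat n).subset fun v hv => hlt v hv), hcS]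

theorem orbitOK_le (K : Subgroup (Equiv.Perm (Fin n))) {gs : List Elt}
    (hg : ∀ e ∈ gs, permOK n e = true ∧ permOf n e ∈ K) {t : ℕ} (ht : t < n) {tree : List (ℕ × ℕ)} {k : ℕ}
    (h : orbitOK gs t tree k = true) : k ≤ (MulAction.orbit K (⟨t, ht⟩ : Fin n)).ncard := by
  rw [orbitOK] at h
  split at h
  swap
  · exact Bool.noConfusion h
  rename_i m c hgo
  obtain rfl := Nat.eq_of_beq_eq_true h
  have h0 : ∀ u, bit (ins 0 t) u = true → u = t := fun u hu => by
    rcases (bit_ins _ _ _).1 hu with h | h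
    · exact h
    · rw [bit_zero] at h; exact Bool.noConfusion h
  obtain ⟨k1, k2, k3, k4⟩ := growGo_spec (n := n) (fun e he => (hg e he).1)
    (fun u => ∀ hu : u < n, (⟨u, hu⟩ : Fin n) ∈ MulAction.orbit K (⟨t, ht⟩ : Fin n))
    (fun u hu e he hun hv => by
      have e1 : (⟨slot e.1 u, hv⟩ : Fin n) = (⟨permOf n e, (hg e he).2⟩ : K) • (⟨u, hun⟩ : Fin n) :=
        Fin.ext (permOf_val (hg e he).1 ⟨u, hun⟩).symm
      rw [e1]
      exact MulAction.mem_orbit_of_mem_orbit _ (hu hun))
    tree _ _ _ _ hgo (fun u hu => h0 u hu ▸ ht)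
  rw [← k4 (by
    rw [show {u | bit (ins 0 t) u = true} = {t} from Set.eq_singleton_iff_unique_mem.2
      ⟨(bit_ins _ _ _).2 (Or.inl rfl), h0⟩, Set.ncard_singleton])]
  rw [← Set.ncard_image_of_injective (MulAction.orbit K (⟨t, ht⟩ : Fin n)) Fin.val_injective]
  refine Set.ncard_le_ncard (fun u hu => ⟨⟨u, k2 u hu⟩, ?_, rfl⟩)
  exact k3 (fun v hv hvn => by
    obtain rfl := h0 v hv
    exact MulAction.mem_orbit_self _) u hu _

/-! ### Chains -/

theorem chain_card {G : Graph} {nodes : List Elt} {prog : List (ℕ × ℕ)} (hG : graphOK n G = true)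
    (hn : slpOK n nodes prog = true) (hle : grp n nodes ≤ autG n G) :
    ∀ (Ls : List Level) (bs : List ℕ), levelsOK n G nodes bs Ls = true → (∀ b ∈ bs, b < n) →
      (∀ b ∈ bs ++ Ls.map (·.t), b < n) ∧
      Nat.card ↥(grp n nodes ⊓ fixList n bs) =
        (Ls.map (·.k)).prod * Nat.card ↥(grp n nodes ⊓ fixList n (bs ++ Ls.map (·.t))) := by
  intro Ls
  induction Ls with
  | nil => intro bs _ hlt; simp [List.map_nil, List.append_nil]; exact hlt
  | cons L Ls ih =>
    intro bs h hlt
    simp only [levelsOK, Bool.and_eq_true] at h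
    obtain ⟨hL, hrest⟩ := h
    simp only [levelOK, Bool.and_eq_true, Nat.blt_eq, Nat.beq_eq, Bool.not_eq_true', List.any_eq_false] at hL
    obtain ⟨⟨⟨⟨⟨ht, hnew'⟩, hfs⟩, hcls⟩, hgens⟩, horb⟩ := hL
    have hnew : L.t ∉ bs := fun hm => hnew' L.t hm rfl
    have hlt' : ∀ b ∈ bs ++ [L.t], b < n := fun b hb => by
      rcases List.mem_append.1 hb with hb | hb
      · exact hlt b hb
      · rw [List.mem_singleton.1 hb]; exact ht
    obtain ⟨i0, i1⟩ := ih _ hrest hlt'
    simp only [List.append_assoc, List.singleton_append] at i0 i1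
    simp only [List.map_cons, List.prod_cons]
    have hgs : ∀ e ∈ L.gens.map (getN nodes), permOK n e = true ∧ permOf n e ∈ grp n nodes ⊓ fixList n bs := by
      intro e he
      obtain ⟨g, hg, rfl⟩ := List.mem_map.1 he
      have := List.all_eq_true.1 hgens g hg
      simp only [Bool.and_eq_true, List.all_eq_true, Nat.blt_eq, Nat.beq_eq] at this
      exact ⟨getN_ok hn this.1, getN_mem hn this.1, fun i hi => Fin.ext
        ((permOf_val (getN_ok hn this.1) i).trans (this.2 i hi))⟩
    refine ⟨i0, ?_⟩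
    rw [card_split (grp n nodes) bs ⟨L.t, ht⟩, mul_assoc, ← i1]
    congr 1
    refine le_antisymm (le_trans (Set.ncard_le_ncard ?_) (hcls ▸ orbit_le hG hlt hfs ht hnew))
      (orbitOK_le _ hgs ht horb)
    rintro _ ⟨⟨σ, hσ⟩, rfl⟩
    exact ⟨⟨σ, hle hσ.1, hσ.2⟩, rfl⟩

theorem rounds_fix {G : Graph} (hG : graphOK n G = true) :
    ∀ (rs : List (List ℕ)) (cur : List ℕ), roundsOK n G cur rs = true → (∀ b ∈ cur, b < n) →
      (∀ b ∈ cur ++ rs.flatten, b < n) ∧
      autG n G ⊓ fixList n cur ≤ fixList n (cur ++ rs.flatten) := by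
  intro rs
  induction rs with
  | nil => intro cur _ hlt; simp only [List.flatten_nil, List.append_nil]; exact ⟨hlt, inf_le_right⟩
  | cons r rs ih =>
    intro cur h hlt
    simp only [roundsOK, Bool.and_eq_true, List.all_eq_true, Nat.blt_eq, Nat.beq_eq] at h
    obtain ⟨hr, hrest⟩ := h
    have hlt' : ∀ b ∈ cur ++ r, b < n := fun b hb => by
      rcases List.mem_append.1 hb with hb | hb
      · exact hlt b hb
      · exact (hr b hb).1
    obtain ⟨i0, i1⟩ := ih _ hrest hlt'
    rw [List.flatten_cons, ← List.append_assoc]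
    refine ⟨i0, le_trans (le_inf inf_le_left ?_) i1⟩
    intro σ hσ i hi
    rcases List.mem_append.1 hi with hi | hi
    · exact hσ.2 i hi
    by_cases hne : (i : ℕ) ∈ cur
    · exact hσ.2 i hne
    have h1 := orbit_le hG hlt (fs := []) rfl i.2 hne
    rw [(hr i hi).2] at h1
    exact (Set.ncard_le_one (Set.toFinite _)).1 h1 _ ⟨⟨σ, hσ⟩, rfl⟩ _ (MulAction.mem_orbit_self _)

theorem key_smul {G : Graph} {σ : Equiv.Perm (Fin n)} {cur : List ℕ} (hlt : ∀ b ∈ cur, b < n)
    (hσ : σ ∈ autG n G) (hf : σ ∈ fixList n cur) (y : Fin n) : key G cur (σ y) = key G cur y := by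
  suffices ∀ l : List ℕ, (∀ a ∈ l, a ∈ cur) → key G l (σ y) = key G l y from this cur fun _ h => h
  intro l
  induction l with
  | nil => intro _; rfl
  | cons a l ih =>
    intro hl
    obtain ⟨h1, h2⟩ := smul_adj hσ hf (hl a List.mem_cons_self) (hlt a (hl a List.mem_cons_self)) y
    have := ih fun b hb => hl b (List.mem_cons_of_mem _ hb)
    simp only [key, List.foldr_cons] at this ⊢
    rw [h1, h2, this]

theorem incOK_pairwise {f : ℕ → ℕ} : ∀ {l : List ℕ}, incOK f l = true → l.Pairwise fun a b => f a < f b := by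
  intro l
  induction l with
  | nil => intro _; exact List.Pairwise.nil
  | cons a l ih =>
    intro h
    cases l with
    | nil => exact List.pairwise_singleton _ _
    | cons b l =>
      simp only [incOK, Bool.and_eq_true, Nat.blt_eq] at h
      have hp := ih h.2
      refine List.Pairwise.cons (fun c hc => ?_) hp
      rcases List.mem_cons.1 hc with rfl | hc
      · exact h.1
      · exact h.1.trans ((List.pairwise_cons.1 hp).1 c hc)

theorem sep_bot {G : Graph} {cur ord : List ℕ} (hlt : ∀ b ∈ cur, b < n) (h : sepOK n G cur ord = true) :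
    autG n G ⊓ fixList n cur = ⊥ := by
  simp only [sepOK, Bool.and_eq_true, Nat.beq_eq, List.all_eq_true, Nat.blt_eq] at h
  obtain ⟨⟨hlen, hord⟩, hinc⟩ := h
  have hp := incOK_pairwise hinc
  have hnd : ord.Nodup := hp.imp fun {a b} h (e : a = b) => (ne_of_lt h) (by rw [e])
  have hall : ∀ i : Fin n, (i : ℕ) ∈ ord := by
    intro i
    have hsub : ord.toFinset ⊆ Finset.range n := fun a ha => Finset.mem_range.2 (hord a (List.mem_toFinset.1 ha))
    have heq := Finset.eq_of_subset_of_card_le hsub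
      (by rw [List.toFinset_card_of_nodup hnd, hlen, Finset.card_range])
    rw [← List.mem_toFinset, heq, Finset.mem_range]
    exact i.2
  rw [eq_bot_iff]
  intro σ hσ
  rw [Subgroup.mem_bot]
  refine Equiv.ext fun i => ?_
  have hk := key_smul hlt hσ.1 hσ.2 i
  rw [Equiv.Perm.one_apply]
  by_contra hne
  have hne' : ((σ i : Fin n) : ℕ) ≠ (i : ℕ) := fun e => hne (Fin.ext e)
  have hm : (ord.map (key G cur)).Nodup := List.pairwise_map.2 (hp.imp fun h => ne_of_lt h)
  exact hne' (List.inj_on_of_nodup_map hm (hall (σ i)) (hall i) hk)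

end Cfsg.Agent.RigidGraph
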