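import Cfsg.Agent.Lib.RigidGraph.EvenLocal
import Cfsg.Agent.Lib.RigidGraph.Order

/-!
Cheaper forms of the checks for large degree: packed permutations copied into short words, ranges, and fixed point
propagation by intersecting neighbourhoods.
-/

set_option autoImplicit false

namespace Cfsg.Agent.RigidGraph

/-- An entry of a table of words with 64 slots. -/
noncomputable def slotT (T : Trie) (i : ℕ) : ℕ := slot (T.get (Nat.div i 64)) (Nat.mod i 64)

/-- The table is a copy of the packed word. -/
noncomputable def copyOK (n e : ℕ) (T : Trie) : Bool := allB (fun i => Nat.beq (slot e i) (slotT T i)) n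

/-- A check on a range. -/
noncomputable def rangeB (f : ℕ → Bool) (a m : ℕ) : Bool := allB (fun i => f (Nat.add a i)) m

/-- Neighbours go to neighbours. -/
noncomputable def autT (G : Graph) (T : Trie) (x : ℕ) : Bool :=
  allB (fun j => bit (G.B.get (slotT T x)) (slotT T (slot (G.N.get x) j))) G.k

/-- The body of `evenOK` on a copy. -/
noncomputable def evenT (k : ℕ) (O R T : Trie) (x : ℕ) : Bool :=
  rootsBelow k (R.get x) && allB (fun j =>
    Nat.beq (slotT T (slot (O.get x) j)) (slot (O.get (slotT T x)) (twoSquares k (R.get x) j))) k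

theorem allB_of_forall {f : ℕ → Bool} : ∀ {n : ℕ}, (∀ i < n, f i = true) → allB f n = true := by
  intro n
  induction n with
  | zero => intro _; rfl
  | succ n ih =>
    intro h
    show Bool.rec false (allB f n) (f n) = true
    rw [h n (Nat.lt_succ_self n)]
    exact ih fun i hi => h i (hi.trans (Nat.lt_succ_self n))

theorem rangeB_spec {f : ℕ → Bool} {a m : ℕ} (h : rangeB f a m = true) {i : ℕ} (h1 : a ≤ i) (h2 : i < a + m) :
    f i = true := by
  have := allB_spec h (show i - a < m by omega)
  rwa [show Nat.add a (i - a) = i from Nat.add_sub_cancel' h1] at this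

variable {n : ℕ} {G : Graph}

theorem autT_mem (hG : graphOK n G = true) {e : Elt} (he : permOK n e = true) {T : Trie}
    (hT : copyOK n e.1 T = true) (h : ∀ x < n, autT G T x = true) : permOf n e ∈ autG n G := by
  classical
  have hcp : ∀ i < n, slot e.1 i = slotT T i := fun i hi => Nat.eq_of_beq_eq_true (allB_spec hT hi)
  set σ := permOf n e with hσ
  have hfwd : ∀ x u : Fin n, Adj G x u → Adj G (σ x) (σ u) := by
    intro x u hxu
    obtain ⟨hrow, hlt, -⟩ := row_spec hG x.2
    obtain ⟨j, hj, hju⟩ := (hrow u).1 hxu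
    rw [Adj, hσ, permOf_val he, permOf_val he, hcp x x.2, hcp u u.2, ← hju]
    exact allB_spec (h x x.2) hj
  let S := (Finset.univ : Finset (Fin n × Fin n)).filter fun p => Adj G p.1 p.2
  have hmap : S.image (fun p => (σ p.1, σ p.2)) = S := by
    refine Finset.eq_of_subset_of_card_le (fun p hp => ?_) ?_
    · obtain ⟨q, hq, rfl⟩ := Finset.mem_image.1 hp
      exact Finset.mem_filter.2 ⟨Finset.mem_univ _, hfwd _ _ (Finset.mem_filter.1 hq).2⟩
    · rw [Finset.card_image_of_injective _ fun p q hpq => by
        simp only [Prod.mk.injEq, EmbeddingLike.apply_eq_iff_eq] at hpq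
        exact Prod.ext hpq.1 hpq.2]
  intro x u
  refine ⟨fun hh => ?_, hfwd x u⟩
  have : (σ x, σ u) ∈ S := Finset.mem_filter.2 ⟨Finset.mem_univ _, hh⟩
  rw [← hmap, Finset.mem_image] at this
  obtain ⟨q, hq, e'⟩ := this
  simp only [Prod.mk.injEq, EmbeddingLike.apply_eq_iff_eq] at e'
  rw [← e'.1, ← e'.2]
  exact (Finset.mem_filter.1 hq).2

theorem evenOK_of_T {k : ℕ} {O R T : Trie} {e : ℕ} (hO : rowsDistinct n k O = true)
    (hT : copyOK n e T = true) (h : ∀ x < n, evenT k O R T x = true) : evenOK n k O R e = true := by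
  have hcp : ∀ i < n, slot e i = slotT T i := fun i hi => Nat.eq_of_beq_eq_true (allB_spec hT hi)
  obtain ⟨hb, -⟩ := rowsDistinct_spec hO
  refine allB_of_forall fun x hx => ?_
  have hh := h x hx
  simp only [evenT, Bool.and_eq_true] at hh
  rw [Bool.and_eq_true]
  refine ⟨hh.1, allB_of_forall fun j hj => ?_⟩
  rw [hcp x hx, hcp _ (hb x hx j hj)]
  exact allB_spec hh.2 hj

/-- The body of `graphOK`. -/
noncomputable def graphRow (n : ℕ) (G : Graph) (x : ℕ) : Bool :=
  Nat.beq (bitsOf (G.N.get x) G.k) (G.B.get x) &&
    allB (fun j => Nat.blt (slot (G.N.get x) j) n &&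
      (Nat.beq (j + 1) G.k || Nat.blt (slot (G.N.get x) j) (slot (G.N.get x) (j + 1)))) G.k

theorem graphOK_of_rows (h : ∀ x < n, graphRow n G x = true) : graphOK n G = true := allB_of_forall h

/-! ### Propagation -/

/-- Intersection of neighbourhoods or their complements. -/
noncomputable def meetGo (G : Graph) (full fixed : ℕ) : List (ℕ × Bool) → Option ℕ
  | [] => some full
  | (a, d) :: l =>
    match meetGo G full fixed l with
    | some m => bif bit fixed a then
        some (Nat.land m (bif d then G.B.get a else Nat.xor full (G.B.get a))) else none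
    | none => none

/-- Each step fixes one more point. -/
noncomputable def propGo (G : Graph) (n full : ℕ) : ℕ → List (ℕ × List (ℕ × Bool)) → Option ℕ
  | fixed, [] => some fixed
  | fixed, (y, c) :: l =>
    match meetGo G full fixed c with
    | some m =>
      bif Nat.blt y n && Nat.beq (Nat.land m (Nat.xor full fixed)) (Nat.shiftLeft 1 y) then
        propGo G n full (ins fixed y) l else none
    | none => none

/-- The steps fix everything. -/
noncomputable def propOK (G : Graph) (n fixed : ℕ) (l : List (ℕ × List (ℕ × Bool))) : Bool :=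
  match propGo G n (2 ^ n - 1) fixed l with
  | some m => Nat.beq m (2 ^ n - 1)
  | none => false

theorem bit_land (a b i : ℕ) : bit (Nat.land a b) i = (bit a i && bit b i) := by
  show bit (a &&& b) i = _
  rw [bit_eq_testBit, bit_eq_testBit, bit_eq_testBit, Nat.testBit_and]

theorem bit_compl (a i : ℕ) (hi : i < n) : bit (Nat.xor (2 ^ n - 1) a) i = !bit a i := by
  show bit ((2 ^ n - 1) ^^^ a) i = _
  rw [bit_eq_testBit, bit_eq_testBit, Nat.testBit_xor, Nat.testBit_two_pow_sub_one]
  simp [hi]

theorem bit_shiftLeft_one (y i : ℕ) : bit (Nat.shiftLeft 1 y) i = true ↔ i = y := by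
  show bit (1 <<< y) i = true ↔ _
  rw [bit_eq_testBit, Nat.one_shiftLeft, Nat.testBit_two_pow, decide_eq_true_eq]
  exact eq_comm

theorem bit_foldl_ins : ∀ (l : List ℕ) (m v : ℕ), bit (l.foldl ins m) v = true → v ∈ l ∨ bit m v = true := by
  intro l
  induction l with
  | nil => intro m v h; exact Or.inr h
  | cons a l ih =>
    intro m v h
    rcases ih _ v h with h | h
    · exact Or.inl (List.mem_cons_of_mem _ h)
    · rcases (bit_ins _ _ _).1 h with rfl | h
      · exact Or.inl List.mem_cons_self
      · exact Or.inr h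

theorem meetGo_spec {σ : Equiv.Perm (Fin n)} (hσ : σ ∈ autG n G) {fixed : ℕ}
    (hlt : ∀ i, bit fixed i = true → i < n) (hf : ∀ y : Fin n, bit fixed y = true → σ y = y) :
    ∀ (l : List (ℕ × Bool)) (m : ℕ), meetGo G (2 ^ n - 1) fixed l = some m →
      ∀ y : Fin n, bit m (σ y : Fin n) = bit m y := by
  intro l
  induction l with
  | nil =>
    intro m h y
    simp only [meetGo, Option.some.injEq] at h
    rw [← h, bit_full (σ y).2, bit_full y.2]
  | cons p l ih =>
    obtain ⟨a, d⟩ := p
    intro m h y
    rw [meetGo] at h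
    split at h
    swap
    · exact absurd h (by simp)
    rename_i m' hm'
    cases ha : bit fixed a with
    | false => rw [ha, cond_false] at h; exact absurd h (by simp)
    | true =>
      rw [ha, cond_true, Option.some.injEq] at h
      rw [← h, bit_land, bit_land, ih m' hm' y]
      congr 1
      have e := hσ ⟨a, hlt a ha⟩ y
      rw [hf ⟨a, hlt a ha⟩ ha] at e
      have e' : bit (G.B.get a) ((σ y : Fin n) : ℕ) = bit (G.B.get a) (y : ℕ) := Bool.eq_iff_iff.2 e
      cases d
      · rw [cond_false, bit_compl _ _ (σ y).2, bit_compl _ _ y.2, e']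
      · rw [cond_true, e']

theorem propGo_spec {σ : Equiv.Perm (Fin n)} (hσ : σ ∈ autG n G) :
    ∀ (l : List (ℕ × List (ℕ × Bool))) (fixed out : ℕ), propGo G n (2 ^ n - 1) fixed l = some out →
      (∀ i, bit fixed i = true → i < n) → (∀ y : Fin n, bit fixed y = true → σ y = y) →
      ∀ y : Fin n, bit out y = true → σ y = y := by
  intro l
  induction l with
  | nil =>
    intro fixed out h _ hf
    simp only [propGo, Option.some.injEq] at h
    exact h ▸ hf
  | cons p l ih =>
    obtain ⟨y, c⟩ := p
    intro fixed out h hlt hf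
    rw [propGo] at h
    split at h
    swap
    · exact absurd h (by simp)
    rename_i m hm
    cases hc : (Nat.blt y n && Nat.beq (Nat.land m (Nat.xor (2 ^ n - 1) fixed)) (Nat.shiftLeft 1 y)) with
    | false => rw [hc, cond_false] at h; exact absurd h (by simp)
    | true =>
      rw [hc, cond_true] at h
      simp only [Bool.and_eq_true, Nat.blt_eq, Nat.beq_eq] at hc
      obtain ⟨hy, heq⟩ := hc
      have key : ∀ i : Fin n, (bit m i && !bit fixed i) = true ↔ (i : ℕ) = y := fun i => by
        have e1 := bit_land m (Nat.xor (2 ^ n - 1) fixed) i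
        rw [bit_compl _ _ i.2, heq] at e1
        rw [← e1]
        exact bit_shiftLeft_one y i
      refine ih _ out h (fun i hi => ?_) (fun z hz => ?_)
      · rcases (bit_ins _ _ _).1 hi with rfl | hi
        · exact hy
        · exact hlt i hi
      · rcases (bit_ins _ _ _).1 hz with hz | hz
        · have h1 := (key z).2 hz
          simp only [Bool.and_eq_true, Bool.not_eq_true'] at h1
          refine Fin.ext ?_
          rw [hz]
          refine (key (σ z)).1 ?_
          rw [meetGo_spec hσ hlt hf c m hm z, h1.1, Bool.true_and, Bool.not_eq_true']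
          by_contra hh
          rw [Bool.not_eq_false] at hh
          have h2 := σ.injective (hf _ hh)
          rw [h2] at hh
          rw [hh] at h1
          exact Bool.noConfusion h1.2
        · exact hf z hz

theorem fix_eq_bot_prop {ts : List ℕ} (hts : ∀ t ∈ ts, t < n) {l : List (ℕ × List (ℕ × Bool))}
    (h : propOK G n (ts.foldl ins 0) l = true) : autG n G ⊓ fixList n ts = ⊥ := by
  rw [eq_bot_iff]
  intro σ hσ
  rw [Subgroup.mem_bot]
  rw [propOK] at h
  split at h
  swap
  · exact absurd h (by simp)
  rename_i out hout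
  have h0 : ∀ i, bit (ts.foldl ins 0) i = true → i ∈ ts := fun i hi =>
    (bit_foldl_ins ts 0 i hi).resolve_right (by rw [bit_zero]; exact Bool.false_ne_true)
  refine Equiv.ext fun y => propGo_spec hσ.1 l _ out hout (fun i hi => hts i (h0 i hi))
    (fun z hz => hσ.2 z (h0 z hz)) y ?_
  rw [Nat.eq_of_beq_eq_true h]
  exact bit_full y.2

end Cfsg.Agent.RigidGraph
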