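import Mathlib.Data.Nat.Bitwise
import Mathlib.Data.List.Basic

/-!
Checkers for permutation groups preserving a digraph whose automorphism group is determined by a short
base: packed permutations, straight line programs, adjacency patterns, and orbit trees. Everything here is
meant for `decide +kernel`.
-/

set_option autoImplicit false

namespace Cfsg.Agent.RigidGraph

/-- A table of numbers, split by parity of the index. -/
inductive Trie where
  | leaf (v : ℕ)
  | node (l r : Trie)

/-- Entry `i` of a table. -/
noncomputable def Trie.get (t : Trie) : ℕ → ℕ :=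
  Trie.rec (fun v _ => v)
    (fun _ _ l r i => Bool.rec (r (Nat.div i 2)) (l (Nat.div i 2)) (Nat.beq (Nat.mod i 2) 0)) t

/-- Slot `i` of a packed word of 16 bit entries. -/
def slot (w i : ℕ) : ℕ := Nat.land (Nat.shiftRight w (Nat.mul 16 i)) 65535

/-- Membership in a bit set. -/
def bit (m i : ℕ) : Bool := Nat.beq (Nat.land (Nat.shiftRight m i) 1) 1

/-- Insertion in a bit set. -/
def ins (m i : ℕ) : ℕ := Nat.lor m (Nat.shiftLeft 1 i)

/-- `f i` for all `i < n`. -/
noncomputable def allB (f : ℕ → Bool) (n : ℕ) : Bool :=
  Nat.rec true (fun i r => Bool.rec false r (f i)) n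

/-- The number of `i < n` with `f i`. -/
noncomputable def cntB (f : ℕ → Bool) (n : ℕ) : ℕ :=
  Nat.rec 0 (fun i r => Bool.rec r (Nat.succ r) (f i)) n

/-- Equality of booleans. -/
def eqB : Bool → Bool → Bool
  | true, b => b
  | false, b => !b

/-- A permutation with its inverse, packed. -/
abbrev Elt : Type := ℕ × ℕ

/-- The inverse. -/
def invE (e : Elt) : Elt := (e.2, e.1)

/-- A valid packed permutation of `0, …, n-1`. -/
noncomputable def permOK (n : ℕ) (e : Elt) : Bool :=
  allB (fun i => Nat.blt (slot e.1 i) n && Nat.blt (slot e.2 i) n &&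
    Nat.beq (slot e.2 (slot e.1 i)) i && Nat.beq (slot e.1 (slot e.2 i)) i) n

/-- `c = a * b`. -/
noncomputable def mulOK (n : ℕ) (c a b : Elt) : Bool :=
  allB (fun i => Nat.beq (slot c.1 i) (slot a.1 (slot b.1 i))) n

/-- A node, or the inverse of a node for an odd index. -/
def getN (nodes : List Elt) (s : ℕ) : Elt :=
  bif Nat.beq (s % 2) 1 then invE (nodes.getD (s / 2) (0, 0)) else nodes.getD (s / 2) (0, 0)

/-- A straight line program over the first two nodes. -/
noncomputable def slpOK (n : ℕ) (nodes : List Elt) (prog : List (ℕ × ℕ)) : Bool :=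
  Nat.beq nodes.length (prog.length + 2) && nodes.all (permOK n) &&
    allB (fun j => Nat.blt ((prog.getD j (0, 0)).1 / 2) (j + 2) && Nat.blt ((prog.getD j (0, 0)).2 / 2) (j + 2) &&
      mulOK n (nodes.getD (j + 2) (0, 0)) (getN nodes (prog.getD j (0, 0)).1) (getN nodes (prog.getD j (0, 0)).2))
      prog.length

/-- Iteration of a packed permutation. -/
noncomputable def iter (w m i : ℕ) : ℕ := Nat.rec i (fun _ r => slot w r) m

/-- The order divides `m`. -/
noncomputable def powOK (n : ℕ) (e : Elt) (m : ℕ) : Bool := allB (fun i => Nat.beq (iter e.1 m i) i) n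

/-- A digraph of constant valency: rows as bit sets, and as packed increasing lists. -/
structure Graph where
  B : Trie
  N : Trie
  k : ℕ

/-- The bit set of a packed list. -/
noncomputable def bitsOf (w k : ℕ) : ℕ := Nat.rec 0 (fun j r => ins r (slot w j)) k

/-- The bit set of the image of a packed list. -/
noncomputable def imgBits (e w k : ℕ) : ℕ := Nat.rec 0 (fun j r => ins r (slot e (slot w j))) k

/-- The two descriptions of the rows agree. -/
noncomputable def graphOK (n : ℕ) (G : Graph) : Bool :=
  allB (fun x => Nat.beq (bitsOf (G.N.get x) G.k) (G.B.get x) &&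
    allB (fun j => Nat.blt (slot (G.N.get x) j) n &&
      (Nat.beq (j + 1) G.k || Nat.blt (slot (G.N.get x) j) (slot (G.N.get x) (j + 1)))) G.k) n

/-- A packed permutation preserves the graph. -/
noncomputable def autOK (n : ℕ) (G : Graph) (e : Elt) : Bool :=
  allB (fun x => Nat.beq (imgBits e.1 (G.N.get x) G.k) (G.B.get (slot e.1 x))) n

/-- The number of out-neighbours of `y` in a bit set. -/
noncomputable def cnt (G : Graph) (y O : ℕ) : ℕ := cntB (fun j => bit O (slot (G.N.get y) j)) G.k

/-- A count feature: a base point, a direction, and the bit set of its neighbours that way. -/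
structure Feat where
  b : ℕ
  out : Bool
  O : ℕ

/-- The bit set of a feature is correct. -/
noncomputable def featOK (n : ℕ) (G : Graph) (bs : List ℕ) (f : Feat) : Bool :=
  bs.any (fun b => Nat.beq b f.b) &&
    bif f.out then Nat.beq f.O (G.B.get f.b) else allB (fun y => eqB (bit f.O y) (bit (G.B.get y) f.b)) n

/-- `y` has the same pattern as `t`. -/
noncomputable def sigEq (G : Graph) (bs : List ℕ) (fs : List Feat) (t y : ℕ) : Bool :=
  bs.all (fun b => !Nat.beq y b && eqB (bit (G.B.get b) y) (bit (G.B.get b) t) &&
    eqB (bit (G.B.get y) b) (bit (G.B.get t) b)) &&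
    fs.all fun f => Nat.beq (cnt G y f.O) (cnt G t f.O)

/-- The size of the class of `t`. -/
noncomputable def classCnt (n : ℕ) (G : Graph) (bs : List ℕ) (fs : List Feat) (t : ℕ) : ℕ :=
  cntB (sigEq G bs fs t) n

/-- Grow an orbit: an entry `(u, g)` adds the image of a point `u` already reached under generator `g`. -/
def growGo (gs : List Elt) : List (ℕ × ℕ) → ℕ → ℕ → Option (ℕ × ℕ)
  | [], m, c => some (m, c)
  | (u, g) :: l, m, c =>
    bif bit m u && Nat.blt g gs.length && !bit m (slot (gs.getD g (0, 0)).1 u) then
      growGo gs l (ins m (slot (gs.getD g (0, 0)).1 u)) (c + 1)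
    else none

/-- The orbit of `t` has at least `k` points. -/
def orbitOK (gs : List Elt) (t : ℕ) (tree : List (ℕ × ℕ)) (k : ℕ) : Bool :=
  match growGo gs tree (ins 0 t) 1 with
  | some (_, c) => Nat.beq c k
  | none => false

/-- A level of the chain. -/
structure Level where
  t : ℕ
  k : ℕ
  fs : List Feat
  gens : List ℕ
  tree : List (ℕ × ℕ)

/-- Check one level after the base `bs`. -/
noncomputable def levelOK (n : ℕ) (G : Graph) (nodes : List Elt) (bs : List ℕ) (L : Level) : Bool :=
  Nat.blt L.t n && !bs.any (fun b => Nat.beq b L.t) && L.fs.all (featOK n G bs) && Nat.beq (classCnt n G bs L.fs L.t) L.k &&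
    L.gens.all (fun g => Nat.blt (g / 2) nodes.length &&
      bs.all fun b => Nat.beq (slot (getN nodes g).1 b) b) &&
    orbitOK (L.gens.map (getN nodes)) L.t L.tree L.k

/-- Check a chain. -/
noncomputable def levelsOK (n : ℕ) (G : Graph) (nodes : List Elt) : List ℕ → List Level → Bool
  | _, [] => true
  | bs, L :: Ls => levelOK n G nodes bs L && levelsOK n G nodes (bs ++ [L.t]) Ls

/-- Each round consists of points alone in their class. -/
noncomputable def roundsOK (n : ℕ) (G : Graph) : List ℕ → List (List ℕ) → Bool
  | _, [] => true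
  | cur, r :: rs =>
    r.all (fun a => Nat.blt a n && Nat.beq (classCnt n G cur [] a) 1) && roundsOK n G (cur ++ r) rs

/-- The adjacency key of `y`. -/
noncomputable def key (G : Graph) (cur : List ℕ) (y : ℕ) : ℕ :=
  cur.foldr (fun a r => Nat.add (Nat.mul 4 r)
    (Nat.add (bif bit (G.B.get a) y then 2 else 0) (bif bit (G.B.get y) a then 1 else 0))) 0

/-- The keys increase strictly along the list. -/
noncomputable def incOK (f : ℕ → ℕ) : List ℕ → Bool
  | [] => true
  | [_] => true
  | a :: b :: l => Nat.blt (f a) (f b) && incOK f (b :: l)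

/-- All keys are different. -/
noncomputable def sepOK (n : ℕ) (G : Graph) (cur ord : List ℕ) : Bool :=
  Nat.beq ord.length n && ord.all (fun y => Nat.blt y n) && incOK (key G cur) ord

/-- Suborbit cover: representatives, sizes and trees fill the point set. -/
def coverGo (gs : List Elt) : List (ℕ × ℕ × List (ℕ × ℕ)) → ℕ → Option ℕ
  | [], m => some m
  | (r, k, tree) :: l, m =>
    match growGo gs tree (ins 0 r) 1 with
    | some (m', c) => bif Nat.beq c k && Nat.beq (Nat.land m m') 0 then coverGo gs l (Nat.lor m m') else none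
    | none => none

/-- All sums of a sublist. -/
def subSums : List ℕ → List ℕ
  | [] => [0]
  | a :: l => subSums l ++ (subSums l).map (a + ·)

/-- Only trivial unions of suborbits have size dividing `n`. -/
def sumsOK (n : ℕ) (l : List ℕ) : Bool :=
  (subSums l).all fun s => !Nat.beq (n % (1 + s)) 0 || Nat.beq s 0 || Nat.beq (1 + s) n

end Cfsg.Agent.RigidGraph
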