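import Cfsg.Agent.Lib.RigidGraph.Basic
import Mathlib.GroupTheory.Perm.Sign

/-!
Permutations which act evenly on ordered neighbourhoods: the relation between the parity of a local bijection and
a choice of orientations gives a subgroup; evenness is witnessed by writing the local bijection as a product of
two squares.
-/

set_option autoImplicit false

namespace Cfsg.Agent.RigidGraph

/-- All rows have distinct entries below `n`. -/
noncomputable def rowsDistinct (n k : ℕ) (O : Trie) : Bool :=
  allB (fun x => allB (fun j => Nat.blt (slot (O.get x) j) n) k &&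
    !bit (Nat.rec 0 (fun j r => bif bit r (slot (O.get x) j) then ins r n else ins r (slot (O.get x) j)) k) n) n

/-- `j ↦ u (u (v (v j)))`, with `u`, `v` packed one after the other. -/
def twoSquares (k r j : ℕ) : ℕ :=
  slot r (slot r (slot r (Nat.add k (slot r (Nat.add k j)))))

/-- The packed maps stay below `k`. -/
noncomputable def rootsBelow (k r : ℕ) : Bool :=
  allB (fun j => Nat.blt (slot r j) k && Nat.blt (slot r (Nat.add k j)) k) k

/-- An element maps every ordered row to another one by a product of two squares. -/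
noncomputable def evenOK (n k : ℕ) (O R : Trie) (e : ℕ) : Bool :=
  allB (fun x => rootsBelow k (R.get x) && allB (fun j =>
    Nat.beq (slot e (slot (O.get x) j)) (slot (O.get (slot e x)) (twoSquares k (R.get x) j))) k) n

/-- The transposition of the first two slots. -/
def swap01 (j : ℕ) : ℕ := bif Nat.beq j 0 then 1 else bif Nat.beq j 1 then 0 else j

/-- An element fixing `x` maps its ordered row to itself by a product of two squares and a transposition. -/
noncomputable def oddOK (k : ℕ) (O : Trie) (x r e : ℕ) : Bool :=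
  Nat.beq (slot e x) x && rootsBelow k r && Nat.blt 1 k && allB (fun j =>
    Nat.beq (slot e (slot (O.get x) j)) (slot (O.get x) (twoSquares k r (swap01 j)))) k

variable {n k : ℕ} {O : Trie}

theorem distinct_rec (g : ℕ → ℕ) {n : ℕ} (hg : ∀ j, g j = n → False) : ∀ k,
    bit (Nat.rec 0 (fun j r => bif bit r (g j) then ins r n else ins r (g j)) k) n = false →
      (∀ j < k, bit (Nat.rec 0 (fun j r => bif bit r (g j) then ins r n else ins r (g j)) k) (g j) = true) ∧
        ∀ i j, i < j → j < k → g i ≠ g j := by
  intro k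
  induction k with
  | zero => intro _; exact ⟨fun j hj => absurd hj (by omega), fun i j _ hj => absurd hj (by omega)⟩
  | succ k ih =>
    intro h
    change bit (bif bit (Nat.rec 0 (fun j r => bif bit r (g j) then ins r n else ins r (g j)) k) (g k)
      then ins _ n else ins _ (g k)) n = false at h
    set r := Nat.rec (motive := fun _ => ℕ) 0 (fun j r => bif bit r (g j) then ins r n else ins r (g j)) k
      with hr
    cases hb : bit r (g k) with
    | true =>
      rw [hb, cond_true] at h
      have := (bit_ins r n n).2 (Or.inl rfl)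
      rw [h] at this
      exact Bool.noConfusion this
    | false =>
      rw [hb, cond_false] at h
      have h0 : bit r n = false := by
        by_contra hh
        rw [Bool.not_eq_false] at hh
        have := (bit_ins r (g k) n).2 (Or.inr hh)
        rw [h] at this
        exact Bool.noConfusion this
      obtain ⟨i1, i2⟩ := ih h0
      refine ⟨fun j hj => ?_, fun i j hij hj e => ?_⟩
      · show bit (bif bit r (g k) then ins r n else ins r (g k)) (g j) = true
        rw [hb, cond_false, bit_ins]
        rcases Nat.lt_succ_iff_lt_or_eq.1 hj with hj | rfl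
        · exact Or.inr (i1 j hj)
        · exact Or.inl rfl
      · rcases Nat.lt_succ_iff_lt_or_eq.1 hj with hj | rfl
        · exact i2 i j hij hj e
        · have := i1 i hij
          rw [e, hb] at this
          exact Bool.noConfusion this

/-- An ordered row. -/
noncomputable def row (n k : ℕ) (O : Trie) (h : ∀ x < n, ∀ j < k, slot (O.get x) j < n) (x : Fin n) (j : Fin k) : Fin n :=
  ⟨slot (O.get x) j, h x x.2 j j.2⟩

theorem rowsDistinct_spec (h : rowsDistinct n k O = true) :
    ∃ hb : ∀ x < n, ∀ j < k, slot (O.get x) j < n, ∀ x, Function.Injective (row n k O hb x) := by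
  have hb : ∀ x < n, ∀ j < k, slot (O.get x) j < n := fun x hx j hj => by
    have := allB_spec h hx
    simp only [Bool.and_eq_true] at this
    exact Nat.blt_eq.mp (allB_spec this.1 hj)
  refine ⟨hb, fun x i j e => ?_⟩
  have := allB_spec h x.2
  simp only [Bool.and_eq_true, Bool.not_eq_true'] at this
  by_contra hne
  have key := distinct_rec (fun j => if j < k then slot (O.get x) j else n + 1) (n := n) (fun j e => by
    split at e
    · exact absurd e (ne_of_lt (hb x x.2 j ‹_›))
    · omega) k
  have hcongr : ∀ m ≤ k,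
      (Nat.rec 0 (fun j r => bif bit r (slot (O.get x) j) then ins r n else ins r (slot (O.get x) j)) m : ℕ) =
      Nat.rec 0 (fun j r => bif bit r (if j < k then slot (O.get x) j else n + 1) then ins r n
        else ins r (if j < k then slot (O.get x) j else n + 1)) m := by
    intro m hm
    induction m with
    | zero => rfl
    | succ m ih => simp only [if_pos (show m < k by omega)]; rw [← ih (by omega)]
  rw [hcongr k le_rfl] at this
  have e' : slot (O.get x) i = slot (O.get x) j := congrArg Fin.val e
  rcases lt_trichotomy (i : ℕ) (j : ℕ) with hij | hij | hij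
  · exact (key this.2).2 i j hij j.2 (by simp only [if_pos i.2, if_pos j.2]; exact e')
  · exact hne (Fin.ext hij)
  · exact (key this.2).2 j i hij i.2 (by simp only [if_pos i.2, if_pos j.2]; exact e'.symm)

/-- Acting evenly on all the rows. -/
def evenLoc {α β : Type*} [DecidableEq β] [Fintype β] (r : α → β → α) : Subgroup (Equiv.Perm α) where
  carrier := {σ | ∀ x, ∃ π : Equiv.Perm β, Equiv.Perm.sign π = 1 ∧ ∀ j, σ (r x j) = r (σ x) (π j)}
  one_mem' := fun _ => ⟨1, map_one _, fun _ => rfl⟩
  mul_mem' := fun {a b} ha hb x => by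
    obtain ⟨p, hp, hp'⟩ := hb x
    obtain ⟨q, hq, hq'⟩ := ha (b x)
    refine ⟨q * p, by rw [map_mul, hp, hq, mul_one], fun j => ?_⟩
    rw [Equiv.Perm.mul_apply, hp', hq']
    rfl
  inv_mem' := fun {a} ha x => by
    obtain ⟨p, hp, hp'⟩ := ha (a⁻¹ x)
    refine ⟨p⁻¹, by rw [map_inv, hp, inv_one], fun j => ?_⟩
    rw [Equiv.Perm.inv_def, Equiv.symm_apply_eq]
    have := hp' (p⁻¹ j)
    simp only [Equiv.Perm.inv_def, Equiv.apply_symm_apply] at this
    exact this.symm

/-- Two squares as a permutation. -/
theorem twoSquares_perm {r : ℕ} (h : rootsBelow k r = true) (f : Fin k → Fin k) (hf : Function.Injective f)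
    (he : ∀ j : Fin k, (f j : ℕ) = twoSquares k r j) :
    ∃ π : Equiv.Perm (Fin k), Equiv.Perm.sign π = 1 ∧ ∀ j, π j = f j := by
  have hb : ∀ j < k, slot r j < k ∧ slot r (Nat.add k j) < k := fun j hj => by
    have := allB_spec h hj
    simpa only [Bool.and_eq_true, Nat.blt_eq] using this
  set u : Fin k → Fin k := fun j => ⟨slot r j, (hb j j.2).1⟩
  set v : Fin k → Fin k := fun j => ⟨slot r (Nat.add k j), (hb j j.2).2⟩
  have hcomp : ∀ j, f j = u (u (v (v j))) := fun j => Fin.ext (he j)
  have hv : Function.Bijective v := by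
    rw [← Finite.injective_iff_bijective]
    intro a b e
    exact hf (by rw [hcomp, hcomp, e])
  have hu : Function.Bijective u := by
    rw [← Finite.surjective_iff_bijective]
    intro b
    obtain ⟨a, ha⟩ := (Finite.injective_iff_bijective.1 hf).2 b
    exact ⟨u (v (v a)), by rw [← hcomp]; exact ha⟩
  refine ⟨Equiv.ofBijective u hu * Equiv.ofBijective u hu * (Equiv.ofBijective v hv * Equiv.ofBijective v hv),
    ?_, fun j => (hcomp j).symm⟩
  simp only [map_mul, Int.units_mul_self, mul_one]

theorem evenOK_mem (hO : rowsDistinct n k O = true) (hb : ∀ x < n, ∀ j < k, slot (O.get x) j < n)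
    {R : Trie} {e : Elt} (he : permOK n e = true) (h : evenOK n k O R e.1 = true) :
    permOf n e ∈ evenLoc (row n k O hb) := by
  obtain ⟨hb', hinj⟩ := rowsDistinct_spec hO
  intro x
  have hx := allB_spec h x.2
  simp only [Bool.and_eq_true] at hx
  have hbd : ∀ j < k, twoSquares k (R.get x) j < k := fun j hj => by
    have hb : ∀ i < k, slot (R.get x) i < k ∧ slot (R.get x) (Nat.add k i) < k := fun i hi => by
      have := allB_spec hx.1 hi
      simpa only [Bool.and_eq_true, Nat.blt_eq] using this
    exact (hb _ (hb _ (hb _ (hb j hj).2).2).1).1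
  set f : Fin k → Fin k := fun j => ⟨twoSquares k (R.get x) j, hbd j j.2⟩
  have hrel : ∀ j : Fin k, permOf n e (row n k O hb x j) = row n k O hb (permOf n e x) (f j) := fun j => by
    refine Fin.ext ?_
    show ((permOf n e (row n k O hb x j) : Fin n) : ℕ) = slot (O.get ((permOf n e x : Fin n) : ℕ)) (f j : ℕ)
    rw [permOf_val he, permOf_val he]
    exact Nat.eq_of_beq_eq_true (allB_spec hx.2 j.2)
  have hf : Function.Injective f := fun a b e' => hinj x ((permOf n e).injective (by
    rw [hrel, hrel, e']))
  obtain ⟨π, h1, h2⟩ := twoSquares_perm hx.1 f hf fun _ => rfl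
  exact ⟨π, h1, fun j => by rw [h2]; exact hrel j⟩

theorem oddOK_not_mem (hO : rowsDistinct n k O = true) (hb : ∀ x < n, ∀ j < k, slot (O.get x) j < n)
    {x r : ℕ} (hxn : x < n) {e : Elt} (he : permOK n e = true) (h : oddOK k O x r e.1 = true) :
    permOf n e ∉ evenLoc (row n k O hb) := by
  obtain ⟨hb', hinj⟩ := rowsDistinct_spec hO
  simp only [oddOK, Bool.and_eq_true, Nat.beq_eq, Nat.blt_eq] at h
  obtain ⟨⟨⟨hfix, hr⟩, hk⟩, hall⟩ := h
  intro hmem
  obtain ⟨π, hπ, hπ'⟩ := hmem ⟨x, hxn⟩
  have hσx : permOf n e (⟨x, hxn⟩ : Fin n) = ⟨x, hxn⟩ := Fin.ext ((permOf_val he _).trans hfix)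
  rw [hσx] at hπ'
  set a : Fin k := ⟨0, by omega⟩
  set b : Fin k := ⟨1, hk⟩
  have hsw : ∀ j : Fin k, ((Equiv.swap a b j : Fin k) : ℕ) = swap01 j := by
    intro j
    unfold swap01
    by_cases h0 : (j : ℕ) = 0
    · rw [show j = a from Fin.ext h0, Equiv.swap_apply_left]; rfl
    · by_cases h1 : (j : ℕ) = 1
      · rw [show j = b from Fin.ext h1, Equiv.swap_apply_right]; rfl
      · rw [Equiv.swap_apply_of_ne_of_ne (fun e => h0 (congrArg Fin.val e)) (fun e => h1 (congrArg Fin.val e)),
          show Nat.beq (j : ℕ) 0 = false from by simp [← Bool.not_eq_true, h0],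
          show Nat.beq (j : ℕ) 1 = false from by simp [← Bool.not_eq_true, h1]]
        rfl
  have hbd : ∀ i < k, twoSquares k r i < k := fun j hj => by
    have hb : ∀ i < k, slot r i < k ∧ slot r (Nat.add k i) < k := fun i hi => by
      have := allB_spec hr hi
      simpa only [Bool.and_eq_true, Nat.blt_eq] using this
    exact (hb _ (hb _ (hb _ (hb j hj).2).2).1).1
  set f : Fin k → Fin k := fun j => ⟨twoSquares k r j, hbd j j.2⟩
  have hrel : ∀ j : Fin k, π (Equiv.swap a b j) = f j := fun j => by
    have h1 := hπ' (Equiv.swap a b j)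
    have h2 := Nat.eq_of_beq_eq_true (allB_spec hall (Equiv.swap a b j).2)
    refine hinj ⟨x, hxn⟩ (Fin.ext ?_)
    rw [show row n k O hb' = row n k O hb from rfl, ← h1, permOf_val he]
    refine h2.trans ?_
    rw [← hsw, Equiv.swap_apply_self]
    rfl
  obtain ⟨ρ, h1, h2⟩ := twoSquares_perm hr f
    (fun i j e' => (Equiv.swap a b).injective (π.injective (by rw [hrel, hrel, e']))) fun _ => rfl
  have hne : a ≠ b := fun e => Nat.zero_ne_one (congrArg Fin.val e)
  have hmul : π * Equiv.swap a b = ρ := Equiv.ext fun j => by rw [Equiv.Perm.mul_apply, hrel, h2]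
  have := congrArg Equiv.Perm.sign hmul
  rw [map_mul, hπ, h1, Equiv.Perm.sign_swap hne, one_mul] at this
  exact absurd this (by decide)

end Cfsg.Agent.RigidGraph
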