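import Cfsg.Agent.Lib.RigidGraph.Main

/-!
Chains in which the classes of the graph may be larger than the orbits of the group: then the classes bound the
automorphism group of the graph and the orbits bound the group from below.
-/

set_option autoImplicit false

namespace Cfsg.Agent.RigidGraph

/-- One level: the class has `c` points and the orbit has at least `L.k` points. -/
noncomputable def gapLevelOK (n : ℕ) (G : Graph) (nodes : List Elt) (bs : List ℕ) (L : Level) (c : ℕ) : Bool :=
  Nat.blt L.t n && !bs.any (fun b => Nat.beq b L.t) && L.fs.all (featOK n G bs) &&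
    Nat.beq (classCnt n G bs L.fs L.t) c &&
    L.gens.all (fun g => Nat.blt (g / 2) nodes.length &&
      bs.all fun b => Nat.beq (slot (getN nodes g).1 b) b) &&
    orbitOK (L.gens.map (getN nodes)) L.t L.tree L.k

/-- All levels. -/
noncomputable def gapOK (n : ℕ) (G : Graph) (nodes : List Elt) : List ℕ → List (Level × ℕ) → Bool
  | _, [] => true
  | bs, (L, c) :: Ls => gapLevelOK n G nodes bs L c && gapOK n G nodes (bs ++ [L.t]) Ls

variable {n : ℕ} {G : Graph} {nodes : List Elt} {prog : List (ℕ × ℕ)}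

theorem gap_card (hG : graphOK n G = true) (hn : slpOK n nodes prog = true) :
    ∀ (Ls : List (Level × ℕ)) (bs : List ℕ), gapOK n G nodes bs Ls = true → (∀ b ∈ bs, b < n) →
      Nat.card ↥(autG n G ⊓ fixList n bs) ≤
          (Ls.map (·.2)).prod * Nat.card ↥(autG n G ⊓ fixList n (bs ++ Ls.map (·.1.t))) ∧
        (Ls.map (·.1.k)).prod ≤ Nat.card ↥(grp n nodes ⊓ fixList n bs) := by
  intro Ls
  induction Ls with
  | nil =>
    intro bs _ _
    simp only [List.map_nil, List.prod_nil, List.append_nil, one_mul]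
    exact ⟨le_rfl, Nat.card_pos⟩
  | cons p Ls ih =>
    obtain ⟨L, c⟩ := p
    intro bs h hlt
    simp only [gapOK, Bool.and_eq_true] at h
    obtain ⟨hL, hrest⟩ := h
    simp only [gapLevelOK, Bool.and_eq_true, Nat.blt_eq, Nat.beq_eq, Bool.not_eq_true', List.any_eq_false] at hL
    obtain ⟨⟨⟨⟨⟨ht, hnew'⟩, hfs⟩, hcls⟩, hgens⟩, horb⟩ := hL
    have hnew : L.t ∉ bs := fun hm => hnew' L.t hm rfl
    have hlt' : ∀ b ∈ bs ++ [L.t], b < n := fun b hb => by
      rcases List.mem_append.1 hb with hb | hb
      · exact hlt b hb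
      · rw [List.mem_singleton.1 hb]; exact ht
    obtain ⟨i1, i2⟩ := ih _ hrest hlt'
    simp only [List.append_assoc, List.singleton_append] at i1
    simp only [List.map_cons, List.prod_cons]
    have hgs : ∀ e ∈ L.gens.map (getN nodes), permOK n e = true ∧ permOf n e ∈ grp n nodes ⊓ fixList n bs := by
      intro e he
      obtain ⟨g, hg, rfl⟩ := List.mem_map.1 he
      have := List.all_eq_true.1 hgens g hg
      simp only [Bool.and_eq_true, List.all_eq_true, Nat.blt_eq, Nat.beq_eq] at this
      exact ⟨getN_ok hn this.1, getN_mem hn this.1, fun i hi => Fin.ext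
        ((permOf_val (getN_ok hn this.1) i).trans (this.2 i hi))⟩
    constructor
    · rw [card_split (autG n G) bs ⟨L.t, ht⟩, mul_assoc]
      exact Nat.mul_le_mul (hcls ▸ orbit_le hG hlt hfs ht hnew) i1
    · rw [card_split (grp n nodes) bs ⟨L.t, ht⟩]
      exact Nat.mul_le_mul (orbitOK_le _ hgs ht horb) i2

theorem pretransitive_gap [NeZero n] (hn : slpOK n nodes prog = true) {L : Level} {c : ℕ}
    {Ls : List (Level × ℕ)} (hL : gapOK n G nodes [] ((L, c) :: Ls) = true) (hk : L.k = n) :
    MulAction.IsPretransitive ↥(grp n nodes) (Fin n) := by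
  simp only [gapOK, gapLevelOK, Bool.and_eq_true, Nat.blt_eq] at hL
  obtain ⟨⟨⟨⟨ht, -⟩, hgens⟩, horb⟩, -⟩ := hL
  have hgs : ∀ e ∈ L.gens.map (getN nodes), permOK n e = true ∧ permOf n e ∈ grp n nodes := by
    intro e he
    obtain ⟨g, hg, rfl⟩ := List.mem_map.1 he
    have := List.all_eq_true.1 hgens g hg
    simp only [Bool.and_eq_true, Nat.blt_eq] at this
    exact ⟨getN_ok hn this.1, getN_mem hn this.1⟩
  have hu : MulAction.orbit ↥(grp n nodes) (⟨L.t, ht.1.1⟩ : Fin n) = Set.univ :=
    Set.eq_of_subset_of_ncard_le (Set.subset_univ _) (by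
      rw [Set.ncard_univ, Nat.card_fin]
      exact le_of_eq_of_le hk.symm (orbitOK_le _ hgs ht.1.1 horb))
  exact MulAction.isPretransitive_iff_orbit_eq_univ _ |>.2 hu

end Cfsg.Agent.RigidGraph
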