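import Cfsg.Agent.Lib.RigidGraph.Order
import Mathlib.GroupTheory.GroupAction.Blocks

/-! Transitivity, suborbit covers and simplicity. -/

set_option autoImplicit false

namespace Cfsg.Agent.RigidGraph

section abstract

variable {G X : Type*} [Group G] [Finite G] [MulAction G X] [FaithfulSMul G X] [Finite X]
  [MulAction.IsPretransitive G X]

/-- A transitive group without proper unions of suborbits of size dividing the degree, in which a prime
power dividing the degree is a full part of the order, and generated by elements of that prime power order. -/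
theorem isSimpleGroup_of_sums [Nontrivial G] (x₀ : X)
    (hsum : ∀ s : Set X, x₀ ∈ s → (∀ g : G, g • x₀ = x₀ → ∀ y ∈ s, g • y ∈ s) → s.ncard ∣ Nat.card X →
      s.ncard = 1 ∨ s.ncard = Nat.card X)
    {q e : ℕ} (hq : q.Prime) (hn : q ^ e ∣ Nat.card X) (hG : ¬ q ^ (e + 1) ∣ Nat.card G)
    {S : Set G} (hS : Subgroup.closure S = ⊤) (hord : ∀ g ∈ S, ∃ j, g ^ q ^ j = 1) : IsSimpleGroup G := by
  constructor
  intro N hN
  by_cases h1 : (MulAction.orbit N x₀).ncard = 1
  · left
    obtain ⟨z, hz⟩ := Set.ncard_eq_one.1 h1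
    have h0 : ∀ a : N, (a : G) • x₀ = x₀ := fun a => by
      have h2 : (a : G) • x₀ ∈ MulAction.orbit N x₀ := ⟨a, rfl⟩
      have h3 := MulAction.mem_orbit_self (M := N) x₀
      rw [hz, Set.mem_singleton_iff] at h2 h3
      rw [h2, h3]
    rw [eq_bot_iff]
    intro a ha
    rw [Subgroup.mem_bot]
    refine eq_of_smul_eq_smul (α := X) fun y => ?_
    obtain ⟨g, rfl⟩ := MulAction.exists_smul_eq G x₀ y
    have := h0 ⟨g⁻¹ * a * g, by simpa [mul_assoc] using hN.conj_mem a ha g⁻¹⟩
    rw [mul_smul, mul_smul, inv_smul_eq_iff] at this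
    rw [one_smul, this]
  right
  have hB : MulAction.IsBlock G (MulAction.orbit N x₀) := MulAction.IsBlock.orbit_of_normal x₀
  have hne : (MulAction.orbit N x₀).Nonempty := ⟨x₀, MulAction.mem_orbit_self _⟩
  have hfull : (MulAction.orbit N x₀).ncard = Nat.card X := by
    refine (hsum _ (MulAction.mem_orbit_self _) (fun g hg y hy => ?_) (hB.ncard_dvd_card hne)).resolve_left h1
    obtain ⟨a, rfl⟩ := hy
    refine ⟨⟨g * a * g⁻¹, hN.conj_mem _ a.2 g⟩, ?_⟩
    show (g * (a : G) * g⁻¹) • x₀ = g • (a : G) • x₀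
    rw [mul_smul, mul_smul, inv_smul_eq_iff.2 hg.symm]
  have hdvd : q ^ e ∣ Nat.card N := by
    refine hn.trans ?_
    rw [← hfull, ← MulAction.index_stabilizer]
    exact Subgroup.index_dvd_card _
  have hidx : ¬ q ∣ N.index := fun h => hG (by
    rw [pow_succ, ← N.card_mul_index]; exact mul_dvd_mul hdvd h)
  rw [eq_top_iff, ← hS, Subgroup.closure_le]
  intro g hg
  obtain ⟨j, hj⟩ := hord g hg
  rw [SetLike.mem_coe, ← QuotientGroup.eq_one_iff]
  have h2 : orderOf (g : G ⧸ N) ∣ q ^ j := orderOf_dvd_of_pow_eq_one (by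
    rw [← QuotientGroup.mk_pow, hj, QuotientGroup.mk_one])
  have h3 : orderOf (g : G ⧸ N) ∣ N.index := by
    rw [Subgroup.index]; exact orderOf_dvd_natCard _
  have h4 : Nat.gcd (q ^ j) N.index = 1 := Nat.Coprime.pow_left _ (hq.coprime_iff_not_dvd.2 hidx)
  exact orderOf_eq_one_iff.1 (Nat.dvd_one.1 (h4 ▸ Nat.dvd_gcd h2 h3))

end abstract

/-! ### Covers -/

variable {n : ℕ}

theorem coverGo_spec {K : Subgroup (Equiv.Perm (Fin n))} {gs : List Elt}
    (hg : ∀ e ∈ gs, permOK n e = true ∧ permOf n e ∈ K) :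
    ∀ (l : List (ℕ × ℕ × List (ℕ × ℕ))) (m m' : ℕ), coverGo gs l m = some m' →
      (∀ u, bit m u = true → u < n) → (∀ p ∈ l, p.1 < n) →
      ∀ s : Set (Fin n), (∀ g ∈ K, ∀ y ∈ s, g y ∈ s) →
        ∃ t ∈ subSums (l.map fun p => p.2.1),
          {y : Fin n | y ∈ s ∧ bit m' y = true}.ncard = t + {y : Fin n | y ∈ s ∧ bit m y = true}.ncard := by
  intro l
  induction l with
  | nil =>
    intro m m' h _ _ s _
    simp only [coverGo, Option.some.injEq] at h
    subst h
    exact ⟨0, by simp [subSums], (zero_add _).symm⟩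
  | cons p l ih =>
    obtain ⟨r, k, tree⟩ := p
    intro m m'' h hlt hl s hs
    rw [coverGo] at h
    split at h
    swap
    · exact absurd h (by simp)
    rename_i m' c hgo
    cases hc : (Nat.beq c k && Nat.beq (Nat.land m m') 0) with
    | false => rw [hc, cond_false] at h; exact absurd h (by simp)
    | true =>
      rw [hc, cond_true] at h
      simp only [Bool.and_eq_true, Nat.beq_eq] at hc
      obtain ⟨rfl, hdis⟩ := hc
      have hdis' : ∀ u, bit m u = true → bit m' u = true → False := fun u h1 h2 => by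
        have hb : bit (m &&& m') u = (bit m u && bit m' u) := by
          simp only [bit_eq_testBit, Nat.testBit_and]
        rw [show (m &&& m') = 0 from hdis, h1, h2, bit_zero] at hb
        exact absurd hb (by decide)
      have hor : ∀ u, bit (Nat.lor m m') u = true ↔ bit m u = true ∨ bit m' u = true := fun u => by
        rw [show Nat.lor m m' = m ||| m' from rfl, bit_eq_testBit, bit_eq_testBit, bit_eq_testBit,
          Nat.testBit_or, Bool.or_eq_true]
      have hrn : r < n := hl _ List.mem_cons_self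
      have h0 : ∀ u, bit (ins 0 r) u = true → u = r := fun u hu => by
        rcases (bit_ins _ _ _).1 hu with h | h
        · exact h
        · rw [bit_zero] at h; exact Bool.noConfusion h
      obtain ⟨j1, j2, j3, j4⟩ := growGo_spec (n := n) (fun e he => (hg e he).1)
        (fun u => ∀ hu : u < n, (⟨u, hu⟩ : Fin n) ∈ MulAction.orbit K (⟨r, hrn⟩ : Fin n))
        (fun u hu e he hun hv => by
          have e1 : (⟨slot e.1 u, hv⟩ : Fin n) = (⟨permOf n e, (hg e he).2⟩ : K) • (⟨u, hun⟩ : Fin n) :=
            Fin.ext (permOf_val (hg e he).1 ⟨u, hun⟩).symm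
          rw [e1]
          exact MulAction.mem_orbit_of_mem_orbit _ (hu hun))
        tree _ _ _ _ hgo (fun u hu => h0 u hu ▸ hrn)
      have hcard := j4 (by
        rw [show {u | bit (ins 0 r) u = true} = {r} from Set.eq_singleton_iff_unique_mem.2
          ⟨(bit_ins _ _ _).2 (Or.inl rfl), h0⟩, Set.ncard_singleton])
      have horb : ∀ y : Fin n, bit m' y = true → y ∈ MulAction.orbit K (⟨r, hrn⟩ : Fin n) := fun y hy =>
        j3 (fun v hv hvn => by
          obtain rfl := h0 v hv
          exact MulAction.mem_orbit_self _) y hy y.2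
      have hcard' : {y : Fin n | bit m' y = true}.ncard = c := by
        rw [← hcard, ← Set.ncard_image_of_injective {y : Fin n | bit m' y = true} Fin.val_injective]
        congr 1
        ext u
        exact ⟨by rintro ⟨y, hy, rfl⟩; exact hy, fun hu => ⟨⟨u, j2 u hu⟩, hu, rfl⟩⟩
      have hlt' : ∀ u, bit (Nat.lor m m') u = true → u < n := fun u hu =>
        ((hor u).1 hu).elim (hlt u) (j2 u)
      obtain ⟨t, ht, et⟩ := ih _ m'' h hlt' (fun p hp => hl p (List.mem_cons_of_mem _ hp)) s hs
      have hsplit : {y : Fin n | y ∈ s ∧ bit (Nat.lor m m') y = true} =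
          {y | y ∈ s ∧ bit m y = true} ∪ {y | y ∈ s ∧ bit m' y = true} := by
        ext y
        simp only [Set.mem_ofPred_eq, Set.mem_union, hor]
        exact and_or_left
      rw [hsplit, Set.ncard_union_eq (Set.disjoint_left.2 fun y hy hy' => hdis' _ hy.2 hy'.2)
        (Set.toFinite _) (Set.toFinite _)] at et
      simp only [List.map_cons, subSums, List.mem_append, List.mem_map]
      by_cases hrs : (⟨r, hrn⟩ : Fin n) ∈ s
      · refine ⟨c + t, Or.inr ⟨t, ht, rfl⟩, ?_⟩
        have hin : {y : Fin n | y ∈ s ∧ bit m' y = true} = {y : Fin n | bit m' y = true} := by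
          ext y
          refine ⟨fun h => h.2, fun hy => ⟨?_, hy⟩⟩
          obtain ⟨⟨g, hgK⟩, e⟩ := horb y hy
          rw [← e]
          exact hs g hgK _ hrs
        rw [hin, hcard'] at et
        omega
      · refine ⟨t, Or.inl ht, ?_⟩
        have hin : {y : Fin n | y ∈ s ∧ bit m' y = true} = ∅ := by
          rw [Set.eq_empty_iff_forall_notMem]
          rintro y ⟨hys, hy⟩
          obtain ⟨⟨g, hgK⟩, e⟩ := horb y hy
          refine hrs ?_
          have := hs g⁻¹ (K.inv_mem hgK) y hys
          rw [← e] at this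
          simpa [Subgroup.smul_def, Equiv.Perm.inv_def] using this
        rw [hin, Set.ncard_empty] at et
        omega

/-- The trees fill everything: an invariant set containing the base point has size `1` plus a sublist sum. -/
theorem cover_sums {K : Subgroup (Equiv.Perm (Fin n))} {gs : List Elt}
    (hg : ∀ e ∈ gs, permOK n e = true ∧ permOf n e ∈ K) {b : ℕ} (hb : b < n)
    {l : List (ℕ × ℕ × List (ℕ × ℕ))} (hl : l.all (fun p => Nat.blt p.1 n) = true)
    (h : coverGo gs l (ins 0 b) = some (2 ^ n - 1)) {s : Set (Fin n)} (hbs : (⟨b, hb⟩ : Fin n) ∈ s)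
    (hs : ∀ g ∈ K, ∀ y ∈ s, g y ∈ s) : ∃ t ∈ subSums (l.map fun p => p.2.1), s.ncard = 1 + t := by
  have h0 : ∀ u, bit (ins 0 b) u = true → u = b := fun u hu => by
    rcases (bit_ins _ _ _).1 hu with h | h
    · exact h
    · rw [bit_zero] at h; exact Bool.noConfusion h
  obtain ⟨t, ht, et⟩ := coverGo_spec hg l _ _ h (fun u hu => h0 u hu ▸ hb)
    (fun p hp => by simpa using List.all_eq_true.1 hl p hp) s hs
  refine ⟨t, ht, ?_⟩
  have e1 : {y : Fin n | y ∈ s ∧ bit (2 ^ n - 1) y = true} = s := by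
    ext y; exact ⟨fun h => h.1, fun h => ⟨h, bit_full y.2⟩⟩
  have e2 : {y : Fin n | y ∈ s ∧ bit (ins 0 b) y = true} = {⟨b, hb⟩} := by
    ext y
    simp only [Set.mem_ofPred_eq, Set.mem_singleton_iff]
    exact ⟨fun h => Fin.ext (h0 _ h.2), fun h => h ▸ ⟨hbs, (bit_ins _ _ _).2 (Or.inl rfl)⟩⟩
  rw [e1, e2, Set.ncard_singleton] at et
  omega

end Cfsg.Agent.RigidGraph
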